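import Cfsg.Agent.Lib.Fus.M24U.Graph

/-! Two groups of type M(24) are isomorphic with their transpositions matching. -/

set_option autoImplicit false
set_option linter.style.haveILetI false
set_option linter.unusedSectionVars false
set_option maxRecDepth 20000
set_option maxHeartbeats 1000000

namespace Cfsg.Agent.Fus.M24U

open Cfsg Cfsg.Agent.Spor.ThreeTrans Cfsg.Agent.Block.FischerTypes
open Cfsg.Agent.Spor.Cos.Fi23 (piA actA)
open Cfsg.Agent.Fus.M23U.TypeOf (dp)

variable {G G' : Type*} [Group G] [Finite G] [Group G'] [Finite G'] {D : Set G} {D' : Set G'}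

/-- Members in the same place for the two frames. -/
def Matched (L : Spor.Fi23 →* G) (d c : G) (L' : Spor.Fi23 →* G') (d' c' : G') (a : G) (b : G') : Prop :=
  (a = d ∧ b = d') ∨ (∃ p : Fin actA.N, a = L (dp p) * d ∧ b = L' (dp p) * d') ∨
    ∃ y, a = L y * c * (L y)⁻¹ ∧ b = L' y * c' * (L' y)⁻¹

variable {d c : G} {L : Spor.Fi23 →* G} {d' c' : G'} {L' : Spor.Fi23 →* G'}

theorem matched_symm {a : G} {b : G'} (h : Matched L d c L' d' c' a b) : Matched L' d' c' L d c b a := by
  rcases h with ⟨h1, h2⟩ | ⟨p, h1, h2⟩ | ⟨y, h1, h2⟩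
  exacts [Or.inl ⟨h2, h1⟩, Or.inr (Or.inl ⟨p, h2, h1⟩), Or.inr (Or.inr ⟨y, h2, h1⟩)]

variable (B : M24.Base D) (B' : M24.Base D') (F : Frame D d c L) (F' : Frame D' d' c' L')

include B F F' in
theorem matched_mem {a : G} {b : G'} (h : Matched L d c L' d' c' a b) : a ∈ D := by
  rcases h with ⟨rfl, -⟩ | ⟨p, rfl, -⟩ | ⟨y, rfl, -⟩
  exacts [F.left_mem, (F.mem_perp p).1, conj_mem B.set.cls _ F.right_mem]

include B F in
theorem matched_total {a : G} (ha : a ∈ D) : ∃ b, Matched L d c L' d' c' a b := by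
  by_cases h1 : a = d
  · exact ⟨d', Or.inl ⟨h1, rfl⟩⟩
  by_cases h2 : Commute d a
  · obtain ⟨p, hp⟩ := F.perp_eq.le (show a ∈ perp D d from ⟨ha, h1, h2⟩)
    exact ⟨_, Or.inr (Or.inl ⟨p, hp.symm, rfl⟩)⟩
  · obtain ⟨y, hy⟩ := F.orbit a ha h2
    exact ⟨_, Or.inr (Or.inr ⟨y, hy, rfl⟩)⟩

include F F' in
theorem matched_unique {a : G} {b b' : G'} (h : Matched L d c L' d' c' a b)
    (h' : Matched L d c L' d' c' a b') : b = b' := by
  have np : ∀ p, L (dp p) * d ≠ d := fun p => (F.mem_perp p).2.1
  have na : ∀ y, L y * c * (L y)⁻¹ ≠ d := fun y k => F.cls_not_commute y (by rw [k])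
  have npa : ∀ p y, L (dp p) * d ≠ L y * c * (L y)⁻¹ := fun p y k =>
    F.cls_not_commute y (k ▸ (F.mem_perp p).2.2)
  rcases h with ⟨rfl, rfl⟩ | ⟨p, rfl, rfl⟩ | ⟨y, rfl, rfl⟩ <;>
    rcases h' with ⟨k, rfl⟩ | ⟨q, k, rfl⟩ | ⟨z, k, rfl⟩
  · rfl
  · exact absurd k.symm (np q)
  · exact absurd k.symm (na z)
  · exact absurd k (np p)
  · rw [F.member_injective k]
  · exact absurd k (npa p z)
  · exact absurd k (na y)
  · exact absurd k.symm (npa q y)
  · have hs : L (z⁻¹ * y) * c * (L (z⁻¹ * y))⁻¹ = c := by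
      rw [map_mul, map_inv, mul_inv_rev, inv_inv]
      calc (L z)⁻¹ * L y * c * ((L y)⁻¹ * L z) = (L z)⁻¹ * (L y * c * (L y)⁻¹) * L z := by group
        _ = c := by rw [k]; group
    have := (F'.stab_iff _).2 ((F.stab_iff _).1 hs)
    rw [map_mul, map_inv, mul_inv_rev, inv_inv] at this
    calc L' y * c' * (L' y)⁻¹ = L' z * ((L' z)⁻¹ * L' y * c' * ((L' y)⁻¹ * L' z)) * (L' z)⁻¹ := by group
      _ = _ := by rw [this]

include B B' F F' in
theorem matched_commute {a₁ a₂ : G} {b₁ b₂ : G'} (h₁ : Matched L d c L' d' c' a₁ b₁)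
    (h₂ : Matched L d c L' d' c' a₂ b₂) (hc : Commute a₁ a₂) : Commute b₁ b₂ := by
  have pa : ∀ p y, Commute (L (dp p) * d) (L y * c * (L y)⁻¹) →
      Commute (L' (dp p) * d') (L' y * c' * (L' y)⁻¹) := fun p y k =>
    (F'.perp_apart B' y p).2 ((F.perp_apart B y p).1 k)
  have aa : ∀ y z, Commute (L y * c * (L y)⁻¹) (L z * c * (L z)⁻¹) →
      Commute (L' y * c' * (L' y)⁻¹) (L' z * c' * (L' z)⁻¹) := by
    intro y z k
    have hk : Commute c (L (y⁻¹ * z) * c * (L (y⁻¹ * z))⁻¹) := by
      rw [← commute_conj_iff (L y)]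
      rwa [map_mul, map_inv, show L y * ((L y)⁻¹ * L z * c * ((L y)⁻¹ * L z)⁻¹) * (L y)⁻¹ =
        L z * c * (L z)⁻¹ by group]
    have := (commute_conj_iff (L' y) _ _).2 (apart_apart B B' F F' hk)
    rwa [map_mul, map_inv, show L' y * ((L' y)⁻¹ * L' z * c' * ((L' y)⁻¹ * L' z)⁻¹) * (L' y)⁻¹ =
      L' z * c' * (L' z)⁻¹ by group] at this
  rcases h₁ with ⟨rfl, rfl⟩ | ⟨p, rfl, rfl⟩ | ⟨y, rfl, rfl⟩ <;>
    rcases h₂ with ⟨rfl, rfl⟩ | ⟨q, rfl, rfl⟩ | ⟨z, rfl, rfl⟩
  · rfl
  · exact (F'.mem_perp q).2.2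
  · exact absurd hc (F.cls_not_commute z)
  · exact (F'.mem_perp p).2.2.symm
  · exact F'.members_commute.2 (F.members_commute.1 hc)
  · exact pa p z hc
  · exact absurd hc.symm (F.cls_not_commute y)
  · exact (pa q y hc.symm).symm
  · exact aa y z hc

include B B' F F' in
theorem matched_conj {a b : G} {a' b' : G'} (ha : Matched L d c L' d' c' a a')
    (hb : Matched L d c L' d' c' b b') : Matched L d c L' d' c' (a * b * a⁻¹) (a' * b' * a'⁻¹) := by
  have h := B.set.cls
  have h' := B'.set.cls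
  have haD := matched_mem B F F' ha
  have hbD := matched_mem B F F' hb
  have haD' := matched_mem B' F' F (matched_symm ha)
  have hbD' := matched_mem B' F' F (matched_symm hb)
  by_cases hc : Commute a b
  · rw [hc.eq, mul_inv_cancel_right, (matched_commute B B' F F' ha hb hc).eq, mul_inv_cancel_right]
    exact hb
  have hc' : ¬ Commute a' b' := fun k =>
    hc (matched_commute B' B F' F (matched_symm ha) (matched_symm hb) k)
  rw [inv_eq h.1 haD, inv_eq h'.1 haD']
  have hmem : a * b * a ∈ D := by have := conj_mem h a hbD; rwa [inv_eq h.1 haD] at this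
  obtain ⟨u, hu⟩ := matched_total B F (L' := L') (d' := d') (c' := c') hmem
  have hu' := matched_mem B' F' F (matched_symm hu)
  rcases ThreeA.M24.pin B' haD' hbD' hc' u hu' (fun y hy => by
      obtain ⟨x, hx⟩ := matched_total B' F' (L' := L) (d' := d) (c' := c) hy.1.1
      have hx' := matched_symm hx
      have xa := matched_commute B' B F' F (matched_symm ha) hx hy.1.2.2
      have xb := matched_commute B' B F' F (matched_symm hb) hx hy.2.2.2
      exact matched_commute B B' F F' hu hx' ((xa.mul_left xb).mul_left xa)) with e | e | e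
  · subst e
    have := matched_unique F' F (matched_symm ha) (matched_symm hu)
    exact absurd (show Commute a b by
      have k := congrArg (fun t => a * t) this
      show a * b = b * a
      simp only [← mul_assoc, mul_self h.1 haD, one_mul] at k
      rw [← one_mul (b * a)] at k
      have : b * a = 1 := by simpa using k.symm
      rw [this, eq_inv_of_mul_eq_one_left this, inv_eq h.1 haD, mul_self h.1 haD]) hc
  · subst e
    have := matched_unique F' F (matched_symm hb) (matched_symm hu)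
    exact absurd (show Commute a b by
      have k := congrArg (fun t => t * a) this
      show a * b = b * a
      simpa [mul_assoc, mul_self h.1 haD] using k.symm) hc
  · exact e ▸ hu

/-- The matched pairs generate the graph of an isomorphism. -/
theorem exists_mulEquiv (B : M24.Base D) (B' : M24.Base D') (F : Frame D d c L) (F' : Frame D' d' c' L') :
    ∃ e : G ≃* G', e '' D = D' := by
  let R : Subgroup (G × G') := Subgroup.closure {x | Matched L d c L' d' c' x.1 x.2}
  have hR : ∀ x ∈ R, (∀ a b, Matched L d c L' d' c' a b →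
      Matched L d c L' d' c' (x.1 * a * x.1⁻¹) (x.2 * b * x.2⁻¹)) ∧
      (∀ a b, Matched L d c L' d' c' a b →
      Matched L d c L' d' c' (x.1⁻¹ * a * x.1) (x.2⁻¹ * b * x.2)) := by
    intro x hx
    induction hx using Subgroup.closure_induction with
    | mem x hx =>
      have hx' : Matched L d c L' d' c' x.1 x.2 := hx
      refine ⟨fun a b hab => matched_conj B B' F F' hx' hab, fun a b hab => ?_⟩
      have := matched_conj B B' F F' hx' hab
      rw [inv_eq B.set.cls.1 (matched_mem B F F' hx'), inv_eq B'.set.cls.1 (matched_mem B' F' F (matched_symm hx'))]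
        at this ⊢
      exact this
    | one => exact ⟨fun a b hab => by simpa using hab, fun a b hab => by simpa using hab⟩
    | mul x y _ _ ix iy =>
      refine ⟨fun a b hab => ?_, fun a b hab => ?_⟩
      · have := ix.1 _ _ (iy.1 a b hab)
        simpa [mul_assoc] using this
      · have := iy.2 _ _ (ix.2 a b hab)
        simpa [mul_assoc] using this
    | inv x _ ix => exact ⟨fun a b hab => by simpa using ix.2 a b hab, fun a b hab => by simpa using ix.1 a b hab⟩
  let π₁ : ↥R →* G := (MonoidHom.fst G G').comp R.subtype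
  let π₂ : ↥R →* G' := (MonoidHom.snd G G').comp R.subtype
  have hinj₁ : Function.Injective π₁ := by
    rw [← MonoidHom.ker_eq_bot_iff, eq_bot_iff]
    rintro ⟨⟨g, g'⟩, hx⟩ hk
    have hg : g = 1 := hk
    subst hg
    have : g' ∈ Subgroup.center G' := mem_center_of_commute B'.set.cls fun b hb => by
      obtain ⟨a, ha⟩ := matched_total B' F' (L' := L) (d' := d) (c' := c) hb
      have k := (hR _ hx).1 a b (matched_symm ha)
      simp only [one_mul, inv_one, mul_one] at k
      exact (mul_inv_eq_iff_eq_mul.1 (matched_unique F F' k (matched_symm ha))).symm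
    rw [B'.cen, Subgroup.mem_bot] at this
    subst this
    exact Subgroup.mem_bot.2 rfl
  have hinj₂ : Function.Injective π₂ := by
    rw [← MonoidHom.ker_eq_bot_iff, eq_bot_iff]
    rintro ⟨⟨g, g'⟩, hx⟩ hk
    have hg : g' = 1 := hk
    subst hg
    have : g ∈ Subgroup.center G := mem_center_of_commute B.set.cls fun a ha => by
      obtain ⟨b, hb⟩ := matched_total B F (L' := L') (d' := d') (c' := c') ha
      have k := (hR _ hx).1 a b hb
      simp only [one_mul, inv_one, mul_one] at k
      exact (mul_inv_eq_iff_eq_mul.1 (matched_unique F' F (matched_symm k) (matched_symm hb))).symm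
    rw [B.cen, Subgroup.mem_bot] at this
    subst this
    exact Subgroup.mem_bot.2 rfl
  have hsurj₁ : Function.Surjective π₁ := fun g => by
    have : g ∈ π₁.range := (Subgroup.closure_le π₁.range).mpr (fun a ha => by
      obtain ⟨b, hb⟩ := matched_total B F (L' := L') (d' := d') (c' := c') ha
      exact ⟨⟨(a, b), Subgroup.subset_closure hb⟩, rfl⟩) (B.set.cls.2.2 ▸ Subgroup.mem_top g)
    exact this
  have hsurj₂ : Function.Surjective π₂ := fun g => by
    have : g ∈ π₂.range := (Subgroup.closure_le π₂.range).mpr (fun b hb => by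
      obtain ⟨a, ha⟩ := matched_total B' F' (L' := L) (d' := d) (c' := c) hb
      exact ⟨⟨(a, b), Subgroup.subset_closure (matched_symm ha)⟩, rfl⟩) (B'.set.cls.2.2 ▸ Subgroup.mem_top g)
    exact this
  let e₁ := MulEquiv.ofBijective π₁ ⟨hinj₁, hsurj₁⟩
  let e₂ := MulEquiv.ofBijective π₂ ⟨hinj₂, hsurj₂⟩
  refine ⟨e₁.symm.trans e₂, ?_⟩
  have he : ∀ {a b}, Matched L d c L' d' c' a b → (e₁.symm.trans e₂) a = b := fun {a b} hab => by
    have : e₁.symm a = ⟨(a, b), Subgroup.subset_closure hab⟩ := by rw [MulEquiv.symm_apply_eq]; rfl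
    rw [MulEquiv.trans_apply, this]; rfl
  ext b
  constructor
  · rintro ⟨a, ha, rfl⟩
    obtain ⟨b, hb⟩ := matched_total B F (L' := L') (d' := d') (c' := c') ha
    rw [he hb]
    exact matched_mem B' F' F (matched_symm hb)
  · intro hb
    obtain ⟨a, ha⟩ := matched_total B' F' (L' := L) (d' := d) (c' := c) hb
    exact ⟨a, matched_mem B F F' (matched_symm ha), he (matched_symm ha)⟩

/-- Any two groups of type M(24) are isomorphic, transpositions matching. -/
theorem unique {G G' : Type*} [Group G] [Finite G] [Group G'] [Finite G'] {D : Set G} {D' : Set G'}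
    (hD : IsThreeTranspositionGroup D) (hp : IsPrimitiveUnderConj D) (ht : IsOfTypeM24 G D)
    (hD' : IsThreeTranspositionGroup D') (hp' : IsPrimitiveUnderConj D') (ht' : IsOfTypeM24 G' D')
    {d : G} (hd : d ∈ D) {d' : G'} (hd' : d' ∈ D') : ∃ e : G ≃* G', e '' D = D' := by
  have B := M24.base hD hp ht
  have B' := M24.base hD' hp' ht'
  obtain ⟨c, hc, hdc⟩ := B.apart_ne d hd
  obtain ⟨c', hc', hdc'⟩ := B'.apart_ne d' hd'
  obtain ⟨L, F⟩ := exists_frame B hd hc hdc
  obtain ⟨L', F'⟩ := exists_frame B' hd' hc' hdc'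
  exact exists_mulEquiv B B' F F'

end Cfsg.Agent.Fus.M24U
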