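import Cfsg.Agent.Lib.Fus.M24U.ClosedSet
import Cfsg.Agent.Lib.Fus.M23U.Main
import Cfsg.Agent.Lib.Block.FischerTypes.M24Parity
import Cfsg.Agent.Lib.Fus.ThreeA.M24
import Cfsg.Agent.Lib.Block.FischerTypes.M24Bound

/-! A transposition of a group of type M(24), a second one apart from it, and Fi23 acting between them. -/

set_option autoImplicit false
set_option linter.style.haveILetI false
set_option linter.unusedSectionVars false
set_option maxRecDepth 20000
set_option maxHeartbeats 1000000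

namespace Cfsg.Agent.Fus.M24U

open Cfsg Cfsg.Agent.Spor.ThreeTrans Cfsg.Agent.Block.FischerTypes
open Cfsg.Agent.Spor.Cos.Fi23 (piA actA)
open Cfsg.Agent.Fus.M23U.TypeOf (dp dp_equivariant dp_injective range_dp classD)

/-- Products of evenly many transpositions of the set. -/
def evenPart : Set Spor.Fi23 :=
  {y | ∃ l : List (Fin actA.N), Even l.length ∧ (∀ p ∈ l, inSet p = true) ∧ (l.map dp).prod = y}

/-- Fi23 in the centraliser of `d`, matching the common perpendicular of `d` and `c` with the set. -/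
structure Frame {G : Type*} [Group G] (D : Set G) (d c : G) (L : Spor.Fi23 →* G) : Prop where
  left_mem : d ∈ D
  right_mem : c ∈ D
  apart : ¬ Commute d c
  inj : Function.Injective L
  comm : ∀ y, Commute (L y) d
  ne_d : ∀ y, L y ≠ d
  perp_eq : perp D d = Set.range fun p => L (dp p) * d
  common_iff : ∀ p : Fin actA.N, L (dp p) * d ∈ common D d c ↔ inSet p = true
  inv_set : ∀ p : Fin actA.N, inSet p = true → inSet (piA x13 p) = true
  stab : ∀ y, Commute (L y) c ↔ y ∈ evenPart
  orbit : ∀ u ∈ D, ¬ Commute d u → ∃ y, u = L y * c * (L y)⁻¹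

variable {G : Type*} [Group G] [Finite G] {D : Set G}

/-- The quotient of the common perpendicular of the pair in the definition is big. -/
theorem seed_card (B : M24.Base D) : ∃ a ∈ D, ∃ b ∈ D, ¬ Commute a b ∧
    6 * 4952179814400 ≤ Nat.card (ThreeA.CQ D a b) := by
  obtain ⟨d, hd, f, hf, hdf, hseed⟩ := B.seed
  refine ⟨d, hd, f, hf, hdf, ?_⟩
  obtain ⟨N, hN, ⟨eN⟩, ⟨e3⟩⟩ | h0 := hseed
  rotate_left
  · exact M24.seed_bound B hd hf hdf h0
  have hPO : Nat.card (POmega (ZMod 3) (quadFormPlus 4 (ZMod 3))) = 4952179814400 := by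
    have hc := Cfsg.Agent.S0293.result (F := ZMod 3) (ZMod.card 3) 4 le_rfl
    norm_num [Finset.prod_range_succ] at hc
    omega
  have hi : N.index = 6 := by
    rw [Subgroup.index_eq_card, Nat.card_congr e3.toEquiv, Nat.card_perm, Nat.card_eq_fintype_card,
      Fintype.card_fin]
    decide
  show _ ≤ Nat.card (↥(Subgroup.closure (common D d f)) ⧸ Subgroup.center ↥(Subgroup.closure (common D d f)))
  rw [← N.index_mul_card, hi, Nat.card_congr eN.toEquiv, hPO]

/-- The common perpendicular generates the centraliser of the pair. -/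
theorem pair_group (B : M24.Base D) {a b : G} (ha : a ∈ D) (hb : b ∈ D) (hab : ¬ Commute a b) :
    Subgroup.closure (common D a b) = Subgroup.centralizer ({a, b} : Set G) := by
  obtain ⟨a₁, ha₁, b₁, hb₁, hab₁, hN⟩ := seed_card B
  exact (ThreeA.group_eq B.set (fun x hx y hy hxy => ThreeA.M24.card_pair_eq B hx hy hxy) ha₁ hb₁ hab₁ hN
    ha hb hab).1

/-- The even part of the centraliser of a transposition is Fi23. -/
theorem exists_lift (B : M24.Base D) {d : G} (hd : d ∈ D) :
    ∃ L : Spor.Fi23 →* G, Function.Injective L ∧ (∀ y, Commute (L y) d) ∧ (∀ y, L y ≠ d) ∧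
      (∀ g, Commute g d → ∃ y, g = L y ∨ g = L y * d) ∧
      perp D d = Set.range fun p => L (dp p) * d := by
  classical
  have h := B.set.cls
  obtain ⟨χ, hχ⟩ := M24.parity_exists B
  obtain ⟨u₀, hu₀⟩ := B.set.perp_ne d hd
  obtain ⟨e, he⟩ := M23U.exists_iso (B.sub d hd) ⟨_, pr_mem hu₀⟩
  let C : Subgroup ↥(PerpGroup D d) := χ.ker.subgroupOf (PerpGroup D d)
  let f : ↥C →* PerpQuot D d := (QuotientGroup.mk' _).comp C.subtype
  have hdd : d * d = 1 := mul_self h.1 hd
  have hzd : ∀ {z : G}, z ∈ Subgroup.zpowers d → z = 1 ∨ z = d := by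
    intro z hz
    obtain ⟨n, rfl⟩ := Subgroup.mem_zpowers_iff.1 hz
    have hd2 : d ^ (2 : ℤ) = 1 := by rw [zpow_two, hdd]
    rcases Int.even_or_odd' n with ⟨m, rfl | rfl⟩
    · exact Or.inl (by rw [zpow_mul, hd2, one_zpow])
    · exact Or.inr (by rw [zpow_add, zpow_mul, hd2, one_zpow, one_mul, zpow_one])
  have hfinj : Function.Injective f := by
    rw [← MonoidHom.ker_eq_bot_iff, eq_bot_iff]
    intro z hz
    have hz' : ((z : ↥(PerpGroup D d)) : G) ∈ Subgroup.zpowers d := by
      have := (QuotientGroup.eq_one_iff _).1 (MonoidHom.mem_ker.1 hz)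
      rwa [M24.centre B hd, Subgroup.mem_subgroupOf] at this
    rcases hzd hz' with k | k
    · exact Subgroup.mem_bot.2 (Subtype.ext (Subtype.ext k))
    · exfalso
      have hk := z.2
      rw [Subgroup.mem_subgroupOf, MonoidHom.mem_ker, k, hχ d hd] at hk
      exact absurd hk (by decide)
  have hdmem := M24.self B hd
  have hdone : (QuotientGroup.mk (⟨d, hdmem⟩ : ↥(PerpGroup D d)) : PerpQuot D d) = 1 := by
    rw [QuotientGroup.eq_one_iff, M24.centre B hd, Subgroup.mem_subgroupOf]
    exact Subgroup.mem_zpowers d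
  have hfsurj : Function.Surjective f := by
    intro q
    obtain ⟨k, rfl⟩ := QuotientGroup.mk'_surjective _ q
    by_cases hk : χ (k : G) = 1
    · exact ⟨⟨k, hk⟩, rfl⟩
    · refine ⟨⟨k * ⟨d, hdmem⟩, ?_⟩, ?_⟩
      · show χ ((k : G) * d) = 1
        rw [map_mul, (Int.units_eq_one_or (χ (k : G))).resolve_left hk, hχ d hd]
        decide
      · show (QuotientGroup.mk (k * ⟨d, hdmem⟩) : PerpQuot D d) = _
        rw [QuotientGroup.mk_mul, hdone, mul_one]
        rfl
  let ef := MulEquiv.ofBijective f ⟨hfinj, hfsurj⟩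
  let L : Spor.Fi23 →* G :=
    ((PerpGroup D d).subtype.comp C.subtype).comp (e.trans ef.symm).toMonoidHom
  have hLmem : ∀ y, L y ∈ PerpGroup D d := fun y => ((ef.symm (e y)) : ↥(PerpGroup D d)).2
  have hLd : ∀ y, Commute (L y) d := fun y => commute_of_center
    (by rw [M24.centre B hd, Subgroup.mem_subgroupOf]; exact Subgroup.mem_zpowers d :
      (⟨d, hdmem⟩ : ↥(PerpGroup D d)) ∈ Subgroup.center ↥(PerpGroup D d)) (hLmem y)
  have hLχ : ∀ y, χ (L y) = 1 := fun y => (ef.symm (e y)).2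
  have hLinj : Function.Injective L := fun y z k => by
    have : ef.symm (e y) = ef.symm (e z) := Subtype.ext (Subtype.ext k)
    exact e.injective (ef.symm.injective this)
  have hLu : ∀ {y : Spor.Fi23} {u : G} (hu : u ∈ perp D d), e y = pr D d u hu → L y = u * d := by
    intro y u hu ey
    have hm : (⟨u, Subgroup.subset_closure hu⟩ * ⟨d, hdmem⟩ : ↥(PerpGroup D d)) ∈ C := by
      show χ (u * d) = 1
      rw [map_mul, hχ u hu.1, hχ d hd]; decide
    have : ef.symm (e y) = ⟨_, hm⟩ := by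
      rw [MulEquiv.symm_apply_eq]
      show e y = (QuotientGroup.mk (⟨u, Subgroup.subset_closure hu⟩ * ⟨d, hdmem⟩) : PerpQuot D d)
      rw [QuotientGroup.mk_mul, hdone, mul_one, ey]
    exact congrArg (fun z : ↥C => ((z : ↥(PerpGroup D d)) : G)) this
  refine ⟨L, hLinj, hLd, fun y k => ?_, fun g hg => ?_, ?_⟩
  · have := hLχ y
    rw [k, hχ d hd] at this
    exact absurd this (by decide)
  · have hgP : g ∈ PerpGroup D d := M24.centralizer_eq B hd ▸ Subgroup.mem_centralizer_singleton_iff.2 hg.eq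
    by_cases hk : χ g = 1
    · obtain ⟨y, hy⟩ := (e.trans ef.symm).surjective (⟨⟨g, hgP⟩, hk⟩ : ↥C)
      exact ⟨y, Or.inl (congrArg (fun z : ↥C => ((z : ↥(PerpGroup D d)) : G)) hy).symm⟩
    · have hm : (⟨g, hgP⟩ * ⟨d, hdmem⟩ : ↥(PerpGroup D d)) ∈ C := by
        show χ (g * d) = 1
        rw [map_mul, (Int.units_eq_one_or (χ g)).resolve_left hk, hχ d hd]; decide
      obtain ⟨y, hy⟩ := (e.trans ef.symm).surjective (⟨_, hm⟩ : ↥C)
      refine ⟨y, Or.inr ?_⟩
      have hy' : L y = g * d := congrArg (fun z : ↥C => ((z : ↥(PerpGroup D d)) : G)) hy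
      rw [hy', mul_assoc, hdd, mul_one]
  · ext u
    constructor
    · intro hu
      have hm : e.symm (pr D d u hu) ∈ conjugatesOf (Spor.Cos.Fi23.g 0) := by
        obtain ⟨z, hz, ez⟩ := he.ge (pr_mem hu)
        rwa [← ez, e.symm_apply_apply]
      obtain ⟨p, hp⟩ := range_dp.ge (show e.symm (pr D d u hu) ∈ classD from hm)
      refine ⟨p, ?_⟩
      show L (dp p) * d = u
      rw [hLu hu (by rw [hp, e.apply_symm_apply]), mul_assoc, hdd, mul_one]
    · rintro ⟨p, rfl⟩
      have hm : e (dp p) ∈ perpSet D d := he.le ⟨_, range_dp.le ⟨p, rfl⟩, rfl⟩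
      obtain ⟨u, hu, eu⟩ := exists_of_mem hm
      show L (dp p) * d ∈ _
      rw [hLu hu eu.symm, mul_assoc, hdd, mul_one]
      exact hu

theorem dp_sq (p : Fin actA.N) : dp p * dp p = 1 := by
  rw [dp]
  simp only [mul_assoc, inv_mul_cancel_left]
  rw [← mul_assoc Spor.Cos.Fi23.tz, Spor.Cos.Fi23.tz_sq, one_mul, mul_inv_cancel]

/-- Twisting commutes with conjugation. -/
theorem twist_conj {L : Spor.Fi23 →* G} {d : G} (hL : ∀ y, Commute (L y) d) (z : Spor.Fi23) (q : Fin actA.N) :
    L z * (L (dp q) * d) * (L z)⁻¹ = L (dp (piA z q)) * d := by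
  rw [dp_equivariant, map_mul, map_mul, map_inv]
  calc L z * (L (dp q) * d) * (L z)⁻¹ = L z * L (dp q) * (d * (L z)⁻¹) := by simp only [mul_assoc]
    _ = _ := by rw [(hL z).inv_left.symm.eq]; simp only [mul_assoc]

/-- A product of twisted members. -/
theorem twist_prod {L : Spor.Fi23 →* G} {d : G} (hL : ∀ y, Commute (L y) d) :
    ∀ l : List (Fin actA.N), (l.map fun p => L (dp p) * d).prod = L (l.map dp).prod * d ^ l.length
  | [] => by simp
  | p :: l => by
    rw [List.map_cons, List.prod_cons, twist_prod hL l, List.map_cons, List.prod_cons, map_mul, List.length_cons,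
      pow_succ']
    calc L (dp p) * d * (L (l.map dp).prod * d ^ l.length)
        = L (dp p) * (d * L (l.map dp).prod) * d ^ l.length := by simp only [mul_assoc]
      _ = _ := by rw [(hL _).symm.eq]; simp only [mul_assoc]

theorem exists_frame (B : M24.Base D) {d c : G} (hd : d ∈ D) (hc : c ∈ D) (hdc : ¬ Commute d c) :
    ∃ L : Spor.Fi23 →* G, Frame D d c L := by
  classical
  haveI := Spor.Cos.Fi23.finite
  haveI : Fact (Nat.Prime 13) := ⟨by norm_num⟩
  have h := B.set.cls
  have hdd : d * d = 1 := mul_self h.1 hd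
  obtain ⟨L₀, hinj, hcomm, hne, hcov, hperp⟩ := exists_lift B hd
  -- an element of order thirteen fixing both
  obtain ⟨g₁, hg₁⟩ := exists_prime_orderOf_dvd_card' (G := ↥(Subgroup.centralizer ({d, c} : Set G))) 13
    (by rw [ThreeA.M24.card_pair_eq B hd hc hdc]; norm_num)
  have hgd : Commute (g₁ : G) d := (Subgroup.mem_centralizer_iff.1 g₁.2 d (Set.mem_insert ..)).symm
  have hgc : Commute (g₁ : G) c := (Subgroup.mem_centralizer_iff.1 g₁.2 c (by simp)).symm
  have hgo : orderOf (g₁ : G) = 13 := by rw [Subgroup.orderOf_coe, hg₁]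
  obtain ⟨y₁, hy₁⟩ := hcov _ hgd
  have hy2 : L₀ (y₁ ^ 2) = (g₁ : G) ^ 2 := by
    rw [map_pow]
    rcases hy₁ with k | k
    · rw [k]
    · rw [k, (hcomm y₁).mul_pow, pow_two d, hdd, mul_one]
  have hy13 : orderOf (y₁ ^ 2) = 13 := by
    rw [← orderOf_injective L₀ hinj, hy2, Nat.Coprime.orderOf_pow (by rw [hgo]; decide), hgo]
  -- move the standard element onto it
  have hfac : Nat.card Spor.Fi23 = 13 * 314574651791769600 ∧ ¬ 13 ∣ 314574651791769600 := by
    rw [Spor.Cos.Fi23.card_eq]; norm_num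
  have hsyl : ∀ y : Spor.Fi23, orderOf y = 13 → Nat.card ↥(Subgroup.zpowers y) = 13 ^ (Nat.card Spor.Fi23).factorization 13 := by
    intro y hy
    rw [Nat.card_zpowers, hy, hfac.1, Nat.factorization_mul (by norm_num) (by norm_num), Finsupp.add_apply,
      Nat.Prime.factorization_self (by norm_num), Nat.factorization_eq_zero_of_not_dvd hfac.2, pow_one]
  obtain ⟨r, hr⟩ := MulAction.exists_smul_eq Spor.Fi23 (Sylow.ofCard _ (hsyl _ orderOf_x13))
    (Sylow.ofCard _ (hsyl _ hy13))
  obtain ⟨n, hn⟩ : ∃ n : ℤ, (y₁ ^ 2) ^ n = r * x13 * r⁻¹ := by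
    have : r * x13 * r⁻¹ ∈ (Sylow.ofCard _ (hsyl _ hy13)).toSubgroup := by
      rw [← hr]
      exact Subgroup.mem_map.2 ⟨x13, Subgroup.mem_zpowers x13, rfl⟩
    exact Subgroup.mem_zpowers_iff.1 this
  obtain ⟨L, hL⟩ : ∃ L : Spor.Fi23 →* G, L = L₀.comp (MulAut.conj r).toMonoidHom := ⟨_, rfl⟩
  have hLy : ∀ y, L y = L₀ (r * y * r⁻¹) := fun y => by rw [hL]; rfl
  have hcL : ∀ y, Commute (L y) d := fun y => hLy y ▸ hcomm _
  have hxc : Commute (L x13) c := by
    rw [hLy, ← hn, map_zpow, hy2]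
    exact (hgc.pow_left 2).zpow_left n
  have hperp' : perp D d = Set.range fun p => L (dp p) * d := by
    rw [hperp]
    ext u
    constructor
    · rintro ⟨p, rfl⟩
      refine ⟨piA r⁻¹ p, ?_⟩
      show L _ * d = _
      rw [hLy, dp_equivariant]
      congr 2
      group
    · rintro ⟨p, rfl⟩
      exact ⟨piA r p, by show L₀ _ * d = L _ * d; rw [hLy, dp_equivariant]⟩
  have hcovL : ∀ g, Commute g d → ∃ y, g = L y ∨ g = L y * d := fun g hg => by
    obtain ⟨y, hy⟩ := hcov g hg
    refine ⟨r⁻¹ * y * r, ?_⟩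
    rw [hLy, show r * (r⁻¹ * y * r) * r⁻¹ = y by group]
    exact hy
  have hLinj : Function.Injective L := fun y z k => by
    rw [hLy, hLy] at k
    simpa using hinj k
  have hLne : ∀ y, L y ≠ d := fun y k => hne _ (hLy y ▸ k)
  let W : Set (Fin actA.N) := {p | L (dp p) * d ∈ common D d c}
  have hWmem : ∀ {z}, Commute (L z) c → ∀ q ∈ W, piA z q ∈ W := by
    intro z hz q hq
    show L (dp (piA z q)) * d ∈ common D d c
    rw [← twist_conj hcL]
    exact conj_common B.set hd hc hdc (hcL z) hz hq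
  have hWcard : W.ncard = 3240 := by
    rw [← M24.mu B hd hc hdc]
    rw [← Set.ncard_image_of_injective W (f := fun p => L (dp p) * d)
      (fun p q k => dp_injective (hLinj (mul_right_cancel k)))]
    congr 1
    ext u
    refine ⟨fun ⟨p, hp, e⟩ => e ▸ hp, fun hu => ?_⟩
    obtain ⟨p, rfl⟩ := hperp'.le hu.1
    exact ⟨p, hu, rfl⟩
  have hWcl : ∀ p ∈ W, ∀ q ∈ W, piA (dp p) q ∈ W := by
    intro p hp q hq
    show L (dp (piA (dp p) q)) * d ∈ common D d c
    rw [← twist_conj hcL]
    have hk := conj_common B.set hd hc hdc hp.1.2.2.symm hp.2.2.2.symm hq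
    have e : L (dp p) * d * (L (dp q) * d) * (L (dp p) * d)⁻¹ = L (dp p) * (L (dp q) * d) * (L (dp p))⁻¹ := by
      have hq' : Commute d (L (dp q) * d) := ((hcL _).symm).mul_right (Commute.refl d)
      rw [mul_inv_rev]
      calc L (dp p) * d * (L (dp q) * d) * (d⁻¹ * (L (dp p))⁻¹)
          = L (dp p) * (d * (L (dp q) * d)) * d⁻¹ * (L (dp p))⁻¹ := by simp only [mul_assoc]
        _ = _ := by rw [hq'.eq]; simp only [mul_assoc, mul_inv_cancel_left]
    rwa [e] at hk
  have hW := closed_eq hWcl (hWmem hxc) hWcard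
  have hWiff : ∀ p, L (dp p) * d ∈ common D d c ↔ inSet p = true := fun p => Set.ext_iff.1 hW p
  refine ⟨L, hd, hc, hdc, hLinj, hcL, hLne, hperp', hWiff, fun p hp => ?_, fun y => ?_, ?_⟩
  · exact (hWiff _).1 (hWmem hxc p ((hWiff p).2 hp))
  · constructor
    · intro hy
      have hmem : L y ∈ Subgroup.closure (common D d c) := by
        rw [pair_group B hd hc hdc]
        refine Subgroup.mem_centralizer_iff.2 ?_
        rintro z (rfl | rfl)
        exacts [(hcL y).symm, hy.symm]
      have key : ∀ z ∈ Subgroup.closure (common D d c),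
          ∃ l : List (Fin actA.N), (∀ p ∈ l, inSet p = true) ∧ (l.map fun p => L (dp p) * d).prod = z := by
        intro z hz
        induction hz using Subgroup.closure_induction with
        | mem u hu =>
          obtain ⟨p, rfl⟩ := hperp'.le hu.1
          exact ⟨[p], by simpa using (hWiff p).1 hu, by simp⟩
        | one => exact ⟨[], by simp, rfl⟩
        | mul a b _ _ ia ib =>
          obtain ⟨l, hl, rfl⟩ := ia
          obtain ⟨m, hm, rfl⟩ := ib
          refine ⟨l ++ m, fun p hp => ?_, by simp⟩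
          rcases List.mem_append.1 hp with k | k
          exacts [hl p k, hm p k]
        | inv a _ ia =>
          obtain ⟨l, hl, rfl⟩ := ia
          refine ⟨l.reverse, fun p hp => hl p (List.mem_reverse.1 hp), ?_⟩
          rw [List.prod_inv_reverse, List.map_reverse, List.map_map]
          congr 2
          refine List.map_congr_left fun p hp => ?_
          have hD : L (dp p) * d ∈ D := ((hWiff p).2 (hl p hp)).1.1
          exact (inv_eq h.1 hD).symm
      obtain ⟨l, hl, el⟩ := key _ hmem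
      rw [twist_prod hcL] at el
      rcases Nat.even_or_odd l.length with ⟨m, hm⟩ | ⟨m, hm⟩
      · refine ⟨l, ⟨m, hm⟩, hl, hLinj ?_⟩
        rw [← el, hm, ← two_mul, pow_mul, pow_two, hdd, one_pow, mul_one]
      · refine absurd (?_ : L ((l.map dp).prod⁻¹ * y) = d) (hLne _)
        rw [hm, pow_add, pow_mul, pow_two, hdd, one_pow, one_mul, pow_one] at el
        rw [map_mul, map_inv, ← el, inv_mul_cancel_left]
    · rintro ⟨l, ⟨m, hm⟩, hl, rfl⟩
      have hz : L (l.map dp).prod ∈ Subgroup.centralizer ({c} : Set G) := by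
        have := twist_prod hcL l
        rw [hm, ← two_mul, pow_mul, pow_two, hdd, one_pow, mul_one] at this
        rw [← this]
        refine list_prod_mem fun u hu => ?_
        obtain ⟨p, hp, rfl⟩ := List.mem_map.1 hu
        exact Subgroup.mem_centralizer_singleton_iff.2 ((hWiff p).2 (hl p hp)).2.2.2.symm.eq
      exact Subgroup.mem_centralizer_singleton_iff.1 hz
  · intro u hu hdu
    obtain ⟨g, hgd', hgc'⟩ := apart_pair_conj B.set hd hc hdc hd hu hdu
    obtain ⟨y, hy⟩ := hcovL g (mul_inv_eq_iff_eq_mul.1 hgd')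
    rcases hy with k | k
    · exact ⟨y, by rw [← k]; exact hgc'.symm⟩
    obtain ⟨s, hs⟩ := B.meets d hd c hc hdc
    obtain ⟨p, rfl⟩ := hperp'.le hs.1
    refine ⟨y * dp p, ?_⟩
    have hsc : Commute (L (dp p) * d) c := hs.2.2.2.symm
    have e : L (dp p) * c * (L (dp p))⁻¹ = d * c * d⁻¹ := by
      rw [show L (dp p) = d * (L (dp p) * d) by
        rw [← mul_assoc, (hcL _).symm.eq, mul_assoc, hdd, mul_one]]
      calc d * (L (dp p) * d) * c * (d * (L (dp p) * d))⁻¹
          = d * ((L (dp p) * d) * c * (L (dp p) * d)⁻¹) * d⁻¹ := by simp only [mul_inv_rev, mul_assoc]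
        _ = _ := by rw [conj_self_eq hsc]
    rw [← hgc', k, map_mul, mul_inv_rev, mul_inv_rev]
    calc L y * d * c * (d⁻¹ * (L y)⁻¹) = L y * (d * c * d⁻¹) * (L y)⁻¹ := by simp only [mul_assoc]
      _ = _ := by rw [← e]; simp only [mul_assoc]

end Cfsg.Agent.Fus.M24U
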