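import Cfsg.Agent.Lib.Fus.M24U.Frame
import Cfsg.Agent.Lib.Fus.M23U.TypeOf.Below

/-! Frames in two groups of type M(24) give the same commuting relation. -/

set_option autoImplicit false
set_option linter.style.haveILetI false
set_option linter.unusedSectionVars false
set_option maxRecDepth 20000
set_option maxHeartbeats 1000000

open Cfsg.Agent.Spor.Cos

namespace Cfsg.Agent.Fus.M24U

open Cfsg Cfsg.Agent.Spor.ThreeTrans Cfsg.Agent.Block.FischerTypes
open Cfsg.Agent.Spor.Cos.Fi23 (piA actA)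
open Cfsg.Agent.Fus.M23U.TypeOf (dp dp_equivariant dp_injective range_dp classD)

variable {G : Type*} [Group G] [Finite G] {D : Set G} {d c : G} {L : Spor.Fi23 →* G}

namespace Frame

variable (F : Frame D d c L)
include F

theorem mem_perp (p : Fin actA.N) : L (dp p) * d ∈ perp D d := by rw [F.perp_eq]; exact ⟨p, rfl⟩

theorem member_injective {p q : Fin actA.N} (h : L (dp p) * d = L (dp q) * d) : p = q :=
  dp_injective (F.inj (mul_right_cancel h))

theorem members_commute {a b : Spor.Fi23} : Commute (L a * d) (L b * d) ↔ Commute a b := by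
  have e : ∀ x y : Spor.Fi23, L x * d * (L y * d) = L (x * y) * (d * d) := fun x y => by
    rw [map_mul]
    calc L x * d * (L y * d) = L x * (d * L y) * d := by simp only [mul_assoc]
      _ = _ := by rw [(F.comm y).symm.eq]; simp only [mul_assoc]
  constructor
  · intro k
    have k' := k.eq
    rw [e, e] at k'
    exact F.inj (mul_right_cancel k')
  · intro k
    show _ = _
    rw [e, e, k.eq]

theorem cls_not_commute (y : Spor.Fi23) : ¬ Commute d (L y * c * (L y)⁻¹) := fun k => F.apart (by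
  have := (commute_conj_iff (L y) d c).1
  rw [conj_self_eq (F.comm y)] at this
  exact this k)

/-- A member below `d` and one apart from it commute iff the set says so. -/
theorem perp_apart (B : M24.Base D) (y : Spor.Fi23) (p : Fin actA.N) :
    Commute (L (dp p) * d) (L y * c * (L y)⁻¹) ↔ inSet (piA y⁻¹ p) = true := by
  have h := B.set.cls
  have e : L y * (L (dp (piA y⁻¹ p)) * d) * (L y)⁻¹ = L (dp p) * d := by
    rw [twist_conj F.comm, ← Equiv.Perm.mul_apply, ← map_mul, mul_inv_cancel, map_one, Equiv.Perm.one_apply]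
  rw [← F.common_iff, ← e, commute_conj_iff]
  refine ⟨fun k => ⟨F.mem_perp _, ?_, fun e' => F.apart ?_, k.symm⟩, fun k => k.2.2.2.symm⟩
  · exact (F.mem_perp _).1
  · rw [← e']
    exact (F.mem_perp _).2.2

theorem stab_iff (y : Spor.Fi23) : L y * c * (L y)⁻¹ = c ↔ y ∈ evenPart := by
  rw [← F.stab]
  exact ⟨fun k => mul_inv_eq_iff_eq_mul.1 k, fun k => conj_self_eq k⟩

end Frame

/-- Products over letters with images in the class below a member. -/
theorem lift_ev {s : G} {u : ℕ → G} {τ : ℕ → PerpQuot D s} : ∀ {w : List ℕ},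
    (∀ k ∈ w, ∃ hk : u k ∈ perp D s, pr D s (u k) hk = τ k) →
    ∃ hm : ev u w ∈ PerpGroup D s, (QuotientGroup.mk (⟨_, hm⟩ : ↥(PerpGroup D s)) : PerpQuot D s) = ev τ w
  | [], _ => ⟨one_mem _, rfl⟩
  | k :: w, hw => by
    obtain ⟨hm, e⟩ := lift_ev fun j hj => hw j (List.mem_cons_of_mem _ hj)
    obtain ⟨hk, ek⟩ := hw k List.mem_cons_self
    refine ⟨mul_mem (Subgroup.subset_closure hk) hm, ?_⟩
    show _ = τ k * ev τ w
    rw [← ek, ← e]
    rfl

/-- A twisted product over letters. -/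
theorem ev_twist {L : Spor.Fi23 →* G} {d : G} (hL : ∀ y, Commute (L y) d) (qf : ℕ → Fin actA.N) :
    ∀ w : List ℕ, ev (fun k => L (dp (qf k)) * d) w = L (ev (fun k => dp (qf k)) w) * d ^ w.length
  | [] => by simp [ev]
  | k :: w => by
    simp only [ev, ev_twist hL qf w, List.length_cons, pow_succ', map_mul]
    calc L (dp (qf k)) * d * (L (ev (fun k => dp (qf k)) w) * d ^ w.length)
        = L (dp (qf k)) * (d * L (ev (fun k => dp (qf k)) w)) * d ^ w.length := by simp only [mul_assoc]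
      _ = _ := by rw [(hL _).symm.eq]; simp only [mul_assoc]

/-- Trading powers of `a` for powers of a member commuting with `b`. -/
theorem conj_twist_pow {H : Type*} [Group H] {M : Spor.Fi23 →* H} {a b : H} {p : Fin actA.N}
    (hMa : ∀ z, Commute (M z) a) (haa : a * a = 1) (hb : Commute (M (dp p) * a) b) (n : ℕ) {Y : Spor.Fi23} :
    M Y * a ^ n * b * (M Y * a ^ n)⁻¹ = M (Y * dp p ^ n) * b * (M (Y * dp p ^ n))⁻¹ := by
  have e : M (Y * dp p ^ n) = M Y * a ^ n * (M (dp p) * a) ^ n := by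
    have e2 : a ^ n * a ^ n = 1 := by rw [← pow_add, ← two_mul, pow_mul, pow_two, haa, one_pow]
    rw [map_mul, map_pow, (hMa (dp p)).mul_pow, ((hMa (dp p)).pow_pow n n).eq, mul_assoc (M Y),
      ← mul_assoc (a ^ n), e2, one_mul]
  rw [e]
  calc M Y * a ^ n * b * (M Y * a ^ n)⁻¹
      = M Y * a ^ n * ((M (dp p) * a) ^ n * b * ((M (dp p) * a) ^ n)⁻¹) * (M Y * a ^ n)⁻¹ := by
        rw [(hb.pow_left n).eq, mul_inv_cancel_right]
    _ = _ := by simp only [mul_inv_rev, mul_assoc]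

theorem nine_val {k : ℕ} (hk : k < 10) (h7 : k ≠ 7) : Fi23.g k ∈ val Fi23.g Fi23.lv1W := by
  have : [k] ∈ Fi23.lv1W := by interval_cases k <;> first | omega | decide
  simpa [ev] using mem_val (g := Fi23.g) this

theorem g_ne_tz' {k : ℕ} (hk : k < 10) (h7 : k ≠ 7) : Fi23.g k ≠ Fi23.tz := by
  interval_cases k
  exacts [M23U.TypeOf.g_ne_tz 0 (by decide), M23U.TypeOf.g_ne_tz 1 (by decide), M23U.TypeOf.g_ne_tz 2 (by decide),
    M23U.TypeOf.g_ne_tz 3 (by decide), M23U.TypeOf.g_ne_tz 4 (by decide), M23U.TypeOf.g_ne_tz 5 (by decide),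
    M23U.TypeOf.g_ne_tz 6 (by decide), absurd rfl h7, M23U.TypeOf.g_ne_tz 7 (by decide),
    M23U.TypeOf.g_ne_tz 8 (by decide)]

theorem tz_seven : ¬ Commute Fi23.tz (Fi23.g 7) := by
  intro h
  have h1 : Fi23.piA (ev Fi23.g (M23U.TypeOf.tzWord ++ [7])) = Fi23.piA (ev Fi23.g (7 :: M23U.TypeOf.tzWord)) := by
    rw [ev_append, ← M23U.TypeOf.tz_word]
    show _ = Fi23.piA (Fi23.g 7 * ev Fi23.g _)
    rw [← M23U.TypeOf.tz_word, ← h.eq]
    simp [ev]
  have hne : ∃ p < 31671, Nat.beq (Fi23.actA.go (M23U.TypeOf.tzWord ++ [7]) p)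
      (Fi23.actA.go (7 :: M23U.TypeOf.tzWord) p) = false := ⟨0, by decide, by decide +kernel⟩
  obtain ⟨p, hp, hb⟩ := hne
  have e := congrArg (fun π : Equiv.Perm (Fin Fi23.actA.N) => (π ⟨p, hp⟩ : ℕ)) h1
  have hl1 : ∀ s ∈ M23U.TypeOf.tzWord ++ [7], s < 10 := by decide +kernel
  have hl2 : ∀ s ∈ 7 :: M23U.TypeOf.tzWord, s < 10 := by decide +kernel
  simp only [Fi23.homA.apply_ev _ hl1, Fi23.homA.apply_ev _ hl2] at e
  rw [e, Nat.beq_refl] at hb
  exact Bool.noConfusion hb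

/-- The relations are words in the nine or one of two shapes at the last letter. -/
theorem words_shape : ∀ w ∈ Fi23.words, (∀ k ∈ w, k < 10 ∧ k ≠ 7) ∨
    ∃ i ∈ ([0, 1, 2, 3, 4, 5, 6, 8, 9] : List ℕ),
      w = [i, 7, i, 7] ∨ w = [7, i, 7, i] ∨ w = [i, 7, i, 7, i, 7] ∨ w = [7, i, 7, i, 7, i] := by
  decide +kernel

theorem mem_val_word {y : Spor.Fi23} (hy : y ∈ val Fi23.g Fi23.lv1W) :
    ∃ w : List ℕ, (∀ k ∈ w, k < 10 ∧ k ≠ 7) ∧ ev Fi23.g w = y := by
  induction hy using Subgroup.closure_induction with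
  | mem z hz =>
    obtain ⟨w, hw, rfl⟩ := hz
    exact ⟨w, (by decide : ∀ v ∈ Fi23.lv1W, ∀ k ∈ v, k < 10 ∧ k ≠ 7) w hw, rfl⟩
  | one => exact ⟨[], by simp, rfl⟩
  | mul a b _ _ ia ib =>
    obtain ⟨v, hv, rfl⟩ := ia
    obtain ⟨w, hw, rfl⟩ := ib
    exact ⟨v ++ w, fun k hk => (List.mem_append.1 hk).elim (hv k) (hw k), ev_append _ _ _⟩
  | inv a _ ia =>
    obtain ⟨v, hv, rfl⟩ := ia
    exact ⟨v.reverse, fun k hk => hv k (List.mem_reverse.1 hk),
      ev_reverse (n := 10) (fun s _ => Fi23.g_sq s) v fun k hk => (hv k hk).1⟩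

variable {G' : Type*} [Group G'] [Finite G'] {D' : Set G'} {d' c' : G'} {L' : Spor.Fi23 →* G'}

/-- Two members apart from `d` which commute do so in both groups. -/
theorem apart_apart (B : M24.Base D) (B' : M24.Base D') (F : Frame D d c L) (F' : Frame D' d' c' L')
    {y : Spor.Fi23} (hy : Commute c (L y * c * (L y)⁻¹)) : Commute c' (L' y * c' * (L' y)⁻¹) := by
  classical
  have h := B.set.cls
  have h' := B'.set.cls
  have htf := B.set.tf
  by_cases hye : y ∈ evenPart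
  · rw [(F'.stab_iff y).2 hye]
  obtain ⟨e₁, he₁⟩ : ∃ e₁, e₁ = L y * c * (L y)⁻¹ := ⟨_, rfl⟩
  rw [← he₁] at hy
  have hdd : d * d = 1 := mul_self h.1 F.left_mem
  have hdd' : d' * d' = 1 := mul_self h'.1 F'.left_mem
  have he₁D : e₁ ∈ D := he₁ ▸ conj_mem h _ F.right_mem
  have hde₁ : ¬ Commute d e₁ := he₁ ▸ F.cls_not_commute y
  have he₁c : e₁ ∈ perp D c := ⟨he₁D, fun k => hye ((F.stab_iff y).1 (he₁ ▸ k)), hy⟩
  -- a common perpendicular of the three
  obtain ⟨p, hp, hpy⟩ : ∃ p : Fin actA.N, inSet p = true ∧ Commute (L (dp p) * d) e₁ := by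
    obtain ⟨M, FM⟩ := exists_frame B F.right_mem F.left_mem fun k => F.apart k.symm
    obtain ⟨q, hq⟩ := FM.perp_eq.le he₁c
    obtain ⟨w, hw, hwq⟩ := dominated (W := {p : Fin actA.N | inSet p = true}) rfl FM.inv_set q
    have hu : M (dp w) * c ∈ common D c d := (FM.common_iff w).2 hw
    obtain ⟨p, hp⟩ := F.perp_eq.le hu.2
    have hp' : L (dp p) * d = M (dp w) * c := hp
    refine ⟨p, (F.common_iff p).1 ?_, ?_⟩
    · rw [hp']; exact ⟨hu.2, hu.1⟩
    · rw [hp', ← hq]; exact FM.members_commute.2 hwq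
  obtain ⟨s, hs⟩ : ∃ s, s = L (dp p) * d := ⟨_, rfl⟩
  obtain ⟨s', hs'⟩ : ∃ s', s' = L' (dp p) * d' := ⟨_, rfl⟩
  rw [← hs] at hpy
  have hsd : s ∈ perp D d := hs ▸ F.mem_perp p
  have hsd' : s' ∈ perp D' d' := hs' ▸ F'.mem_perp p
  have hsc : s ∈ perp D c := hs ▸ ((F.common_iff p).2 hp).2
  have hsc' : s' ∈ perp D' c' := hs' ▸ ((F'.common_iff p).2 hp).2
  have hds : d ∈ perp D s := M22.perp_symm F.left_mem hsd
  have hcs : c ∈ perp D s := M22.perp_symm F.right_mem hsc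
  have hcs' : c' ∈ perp D' s' := M22.perp_symm F'.right_mem hsc'
  have hes : e₁ ∈ perp D s := ⟨he₁D, fun k => hde₁ (by rw [k]; exact hsd.2.2), hpy⟩
  -- the model below the common perpendicular
  obtain ⟨e₀, he₀⟩ := M23U.exists_iso (B.sub s hsd.1) ⟨_, pr_mem hds⟩
  have hmap : ∀ {x}, x ∈ conjugatesOf (Fi23.g 0) → e₀ x ∈ perpSet D s := fun hx => he₀.le ⟨_, hx, rfl⟩
  obtain ⟨γ, hγd, hγc⟩ := apart_pair_conj (B.sub s hsd.1).set (hmap M23U.TypeOf.tz_conj)
    (hmap (M23U.TypeOf.g_conj 7 (by decide)))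
    (fun k => tz_seven (by simpa using k.map e₀.symm.toMonoidHom)) (pr_mem hds) (pr_mem hcs)
    (fun k => F.apart (commute_of_pr h htf hsd.1 hds hcs k))
  obtain ⟨Θ, hΘ⟩ : ∃ Θ : Spor.Fi23 ≃* PerpQuot D s, Θ = e₀.trans (MulAut.conj γ) := ⟨_, rfl⟩
  have hΘd : Θ Fi23.tz = pr D s d hds := by rw [hΘ]; exact hγd
  have hΘc : Θ (Fi23.g 7) = pr D s c hcs := by rw [hΘ]; exact hγc
  have hΘmem : ∀ k, k < 10 → Θ (Fi23.g k) ∈ perpSet D s := fun k hk => by
    rw [hΘ]
    exact conj_mem (B.sub s hsd.1).set.cls γ (hmap (M23U.TypeOf.g_conj k hk))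
  have hq : ∀ k, k < 10 → k ≠ 7 → ∃ q : Fin actA.N, (Commute (dp q) (dp p) ∧ q ≠ p) ∧
      ∃ hm : L (dp q) * d ∈ perp D s, pr D s (L (dp q) * d) hm = Θ (Fi23.g k) := by
    intro k hk h7
    obtain ⟨u, hu, eu⟩ := exists_of_mem (hΘmem k hk)
    have hud : u ∈ perp D d := by
      refine (M24.toK B hsd.1 hds hu).1 ⟨pr_mem hu, fun k' => g_ne_tz' hk h7 (Θ.injective ?_), ?_⟩
      · rw [hΘd, ← eu]; exact k'
      · rw [eu, ← hΘd]
        exact (show Commute Fi23.tz (Fi23.g k) from (Fi23.tz_comm _ (nine_val hk h7)).symm).map Θ.toMonoidHom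
    obtain ⟨q, hq⟩ := F.perp_eq.le hud
    have hq' : L (dp q) * d = u := hq
    subst hq'
    refine ⟨q, ⟨?_, fun k' => hu.2.1 (by rw [hs, k'])⟩, hu, eu⟩
    exact F.members_commute.1 (hs ▸ hu.2.2.symm)
  choose qf₀ hqf₁ hqf₂ using hq
  let qf : ℕ → Fin actA.N := fun k => if hk : k < 10 ∧ k ≠ 7 then qf₀ k hk.1 hk.2 else p
  let u : ℕ → G := fun k => L (dp (qf k)) * d
  let v : ℕ → G' := fun k => L' (dp (qf k)) * d'
  have hu : ∀ {w : List ℕ}, (∀ k ∈ w, k < 10 ∧ k ≠ 7) →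
      ∀ k ∈ w, ∃ hk : u k ∈ perp D s, pr D s (u k) hk = Θ (Fi23.g k) := by
    intro w hw k hk
    have e : qf k = qf₀ k (hw k hk).1 (hw k hk).2 := dif_pos (hw k hk)
    simp only [u, e]
    exact hqf₂ k _ _
  have hv : ∀ k, k < 10 ∧ k ≠ 7 → v k ∈ perp D' s' := by
    intro k hk
    have e : qf k = qf₀ k hk.1 hk.2 := dif_pos hk
    obtain ⟨hc₁, hne⟩ := hqf₁ k hk.1 hk.2
    simp only [v, e]
    refine ⟨(F'.mem_perp _).1, fun k' => hne (F'.member_injective (k'.trans hs')), ?_⟩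
    exact (hs' ▸ F'.members_commute.2 hc₁).symm
  let σ : ℕ → PerpQuot D' s' := fun k =>
    if k = 7 then pr D' s' c' hcs' else if hk : k < 10 ∧ k ≠ 7 then pr D' s' (v k) (hv k hk) else 1
  have hσ : ∀ {w : List ℕ}, (∀ k ∈ w, k < 10 ∧ k ≠ 7) →
      ∀ k ∈ w, ∃ hk : v k ∈ perp D' s', pr D' s' (v k) hk = σ k := fun hw k hk =>
    ⟨hv k (hw k hk), by simp only [σ, if_neg (hw k hk).2, dif_pos (hw k hk)]⟩
  have hzs : ∀ {z : G}, z ∈ Subgroup.zpowers s → z = 1 ∨ z = s := by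
    intro z hz
    obtain ⟨n, rfl⟩ := Subgroup.mem_zpowers_iff.1 hz
    have hs2 : s ^ (2 : ℤ) = 1 := by rw [zpow_two, mul_self h.1 hsd.1]
    rcases Int.even_or_odd' n with ⟨m, rfl | rfl⟩
    · exact Or.inl (by rw [zpow_mul, hs2, one_zpow])
    · exact Or.inr (by rw [zpow_add, zpow_mul, hs2, one_zpow, one_mul, zpow_one])
  -- relations among the nine carry over
  have hnine : ∀ {w : List ℕ}, (∀ k ∈ w, k < 10 ∧ k ≠ 7) → ev Fi23.g w = 1 → ev σ w = 1 := by
    intro w hw hw1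
    obtain ⟨hm, em⟩ := lift_ev (hu hw)
    rw [show ev (fun k => Θ (Fi23.g k)) w = Θ (ev Fi23.g w) from (ev_map Θ.toMonoidHom Fi23.g w).symm, hw1,
      map_one, QuotientGroup.eq_one_iff, M24.centre B hsd.1, Subgroup.mem_subgroupOf] at em
    have em' : ev u w ∈ Subgroup.zpowers s := em
    obtain ⟨hm', em2⟩ := lift_ev (hσ hw)
    suffices ev v w = 1 ∨ ev v w = s' by
      rw [← em2, QuotientGroup.eq_one_iff, M24.centre B' hsd'.1, Subgroup.mem_subgroupOf]
      show ev v w ∈ Subgroup.zpowers s'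
      rcases this with k | k <;> rw [k]
      exacts [one_mem _, Subgroup.mem_zpowers s']
    have eu := ev_twist F.comm qf w
    have ev' := ev_twist F'.comm qf w
    change ev u w = _ at eu
    change ev v w = _ at ev'
    rw [ev']
    rw [eu] at em'
    set Y := ev (fun k => dp (qf k)) w
    rcases Nat.even_or_odd w.length with ⟨m, hl⟩ | ⟨m, hl⟩
    · rw [hl, ← two_mul, pow_mul, pow_two, hdd, one_pow, mul_one] at em'
      rw [hl, ← two_mul, pow_mul, pow_two, hdd', one_pow, mul_one]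
      rcases hzs em' with k | k
      · left
        rw [F.inj (k.trans (map_one L).symm), map_one]
      · refine absurd (?_ : L ((dp p)⁻¹ * Y) = d) (F.ne_d _)
        rw [map_mul, map_inv, k, hs, inv_mul_cancel_left]
    · rw [hl, pow_add, pow_mul, pow_two, hdd, one_pow, one_mul, pow_one] at em'
      rw [hl, pow_add, pow_mul, pow_two, hdd', one_pow, one_mul, pow_one]
      rcases hzs em' with k | k
      · refine absurd (?_ : L Y = d) (F.ne_d _)
        rw [eq_inv_of_mul_eq_one_left k, inv_eq h.1 F.left_mem]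
      · right
        rw [hs] at k
        rw [hs', F.inj (mul_right_cancel k)]
  have hone : ∀ {i}, i < 10 ∧ i ≠ 7 → (Commute (u i) c ↔ Commute (v i) c') := by
    intro i _
    have k1 := F.perp_apart B 1 (qf i)
    have k2 := F'.perp_apart B' 1 (qf i)
    rw [map_one, one_mul, inv_one, mul_one] at k1 k2
    exact k1.trans k2.symm
  have hsq7 : σ 7 = pr D' s' c' hcs' := if_pos rfl
  have hσi : ∀ s, σ s * σ s = 1 := by
    intro k
    have q : ∀ {x : G'} (hx : x ∈ perp D' s'), pr D' s' x hx * pr D' s' x hx = 1 := fun {x} hx => by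
      rw [← QuotientGroup.mk_mul]
      exact congrArg QuotientGroup.mk (Subtype.ext (mul_self h'.1 hx.1) :
        (⟨x, Subgroup.subset_closure hx⟩ * ⟨x, Subgroup.subset_closure hx⟩ : ↥(PerpGroup D' s')) = 1)
    simp only [σ]
    split_ifs
    exacts [q hcs', q _, mul_one 1]
  have hrel : ∀ w ∈ Fi23.words, ev σ w = 1 := by
    intro w hw
    rcases words_shape w hw with k | ⟨i, hi, hwi⟩
    · exact hnine k (Fi23.g_words w hw)
    have hi' : i < 10 ∧ i ≠ 7 := by
      simp only [List.mem_cons, List.not_mem_nil, or_false] at hi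
      omega
    obtain ⟨hiu, eiu⟩ := hu (w := [i]) (by simpa using hi') i List.mem_cons_self
    obtain ⟨hiv, eiv⟩ := hσ (w := [i]) (by simpa using hi') i List.mem_cons_self
    have hrel := Fi23.g_words w hw
    -- whether the members commute
    have hsym : ∀ a b : PerpQuot D' s', a * a = 1 → b * b = 1 → (a * b) * (a * b) = 1 → b * a * (b * a) = 1 := by
      intro a b ha hb k
      have k1 : a * b = b⁻¹ * a⁻¹ := by rw [← mul_inv_rev]; exact eq_inv_of_mul_eq_one_left k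
      rw [inv_eq_of_mul_eq_one_right ha, inv_eq_of_mul_eq_one_right hb] at k1
      rw [← k1]; exact k
    have two : Commute (Fi23.g i) (Fi23.g 7) → σ i * σ 7 * (σ i * σ 7) = 1 := by
      intro k
      have k' : Commute (pr D s (u i) hiu) (pr D s c hcs) := by
        rw [eiu, ← hΘc]; exact k.map Θ.toMonoidHom
      have k2 := commute_pr hiv hcs' ((hone hi').1 (commute_of_pr h htf hsd.1 hiu hcs k'))
      rw [eiv, ← hsq7] at k2
      rw [k2.symm.mul_mul_mul_comm, hσi, hσi, one_mul]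
    have three : ¬ Commute (Fi23.g i) (Fi23.g 7) → (σ i * σ 7) ^ 3 = 1 := by
      intro k
      have k' : ¬ Commute (v i) c' := fun k'' => k (by
        have := commute_pr hiu hcs ((hone hi').2 k'')
        rw [eiu, ← hΘc] at this
        simpa using this.map Θ.symm.toMonoidHom)
      rw [← eiv, hsq7, ← QuotientGroup.mk_mul, ← QuotientGroup.mk_pow]
      exact congrArg QuotientGroup.mk (Subtype.ext
        (pow_three_of_not_commute h' hiv.1 hcs'.1 k') :
        ((⟨_, Subgroup.subset_closure hiv⟩ * ⟨_, Subgroup.subset_closure hcs'⟩ : ↥(PerpGroup D' s'))) ^ 3 = 1)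
    have gcomm : ∀ a b : Spor.Fi23, a * a = 1 → b * b = 1 → a * (b * (a * b)) = 1 → Commute a b := by
      intro a b ha hb k
      rw [← mul_assoc] at k
      have k1 := eq_inv_of_mul_eq_one_left k
      rw [mul_inv_rev, inv_eq_of_mul_eq_one_right ha, inv_eq_of_mul_eq_one_right hb] at k1
      exact k1
    have gnot : (ev Fi23.g [i, 7, i, 7, i, 7] = 1) → ¬ Commute (Fi23.g i) (Fi23.g 7) := by
      intro k c0
      simp only [ev, mul_one] at k
      have k2 : Fi23.g i * Fi23.g 7 * (Fi23.g i * Fi23.g 7) = 1 := by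
        rw [c0.symm.mul_mul_mul_comm, Fi23.g_sq, Fi23.g_sq, one_mul]
      have k3 : Fi23.g i * Fi23.g 7 = 1 := by
        have e : Fi23.g i * Fi23.g 7 * (Fi23.g i * Fi23.g 7) * (Fi23.g i * Fi23.g 7) = 1 := by
          simpa only [mul_assoc] using k
        rwa [k2, one_mul] at e
      have k4 : Fi23.g i = Fi23.g 7 := by
        rw [eq_inv_of_mul_eq_one_left k3, inv_eq_of_mul_eq_one_right (Fi23.g_sq 7)]
      exact tz_seven (k4 ▸ (Fi23.tz_comm _ (nine_val hi'.1 hi'.2)).symm)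
    have hp3 : ∀ a b : PerpQuot D' s', a * a = 1 → b * b = 1 → (a * b) ^ 3 = 1 → (b * a) ^ 3 = 1 := by
      intro a b ha hb k
      have : b * a = (a * b)⁻¹ := by
        rw [mul_inv_rev, inv_eq_of_mul_eq_one_right ha, inv_eq_of_mul_eq_one_right hb]
      rw [this, inv_pow, k, inv_one]
    rcases hwi with rfl | rfl | rfl | rfl
    · have k := two (gcomm _ _ (Fi23.g_sq _) (Fi23.g_sq _) (by simpa [ev] using hrel))
      simpa [ev, mul_assoc] using k
    · have k := hsym _ _ (hσi _) (hσi _)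
        (two (gcomm _ _ (Fi23.g_sq _) (Fi23.g_sq _) (by simpa [ev] using hrel)).symm)
      simpa [ev, mul_assoc] using k
    · have k := three (gnot hrel)
      simpa [ev, pow_succ, mul_assoc] using k
    · have hr' : ev Fi23.g [i, 7, i, 7, i, 7] = 1 := by
        have := congrArg (fun t => Fi23.g 7 * t * Fi23.g 7) hrel
        simpa [ev, mul_assoc, Fi23.g_sq, ← mul_assoc (Fi23.g 7) (Fi23.g 7)] using this
      have k := hp3 _ _ (hσi _) (hσi _) (three (gnot hr'))
      simpa [ev, pow_succ, mul_assoc] using k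
  obtain ⟨φ, hφ⟩ := Fi23.pres.exists_hom σ hσi hrel (fun k hk => by
    have : 10 ≤ k := hk
    simp only [σ, if_neg (show k ≠ 7 by omega), dif_neg (show ¬(k < 10 ∧ k ≠ 7) by omega)])
  have hφ' : ∀ k, φ (Fi23.g k) = σ k := hφ
  -- the second member as a conjugate of the first
  obtain ⟨g, hgd, hgc⟩ := apart_pair_conj (B.sub s hsd.1).set (pr_mem hds) (pr_mem hcs)
    (fun k => F.apart (commute_of_pr h htf hsd.1 hds hcs k)) (pr_mem hds) (pr_mem hes)
    (fun k => hde₁ (commute_of_pr h htf hsd.1 hds hes k))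
  have hgz : Θ.symm g ∈ val Fi23.g Fi23.lv1W := by
    rw [← Fi23.centralizer_tz, Subgroup.mem_centralizer_singleton_iff]
    refine Θ.injective ?_
    simp only [map_mul, MulEquiv.apply_symm_apply, hΘd]
    exact mul_inv_eq_iff_eq_mul.1 hgd
  obtain ⟨w, hw, ew⟩ := mem_val_word hgz
  obtain ⟨hm, em⟩ := lift_ev (hu hw)
  rw [show ev (fun k => Θ (Fi23.g k)) w = Θ (ev Fi23.g w) from (ev_map Θ.toMonoidHom Fi23.g w).symm, ew,
    Θ.apply_symm_apply] at em
  obtain ⟨hm', em'⟩ := lift_ev (hσ hw)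
  rw [show ev σ w = φ (ev Fi23.g w) by
    rw [ev_map]; exact congrArg (fun f => ev f w) (funext fun k => (hφ' k).symm)] at em'
  have hsu : Commute (ev u w) s := M22.commute_self hm
  have hsv : Commute (ev v w) s' := M22.commute_self hm'
  have hconj : ev u w * c * (ev u w)⁻¹ = e₁ := by
    refine pr_injective h htf hsd.1 (perp_conj' h hsu hcs) hes ?_
    rw [← hgc, ← em]
    rfl
  obtain ⟨y₀, hy₀⟩ : ∃ y₀, y₀ = ev (fun k => dp (qf k)) w * dp p ^ w.length := ⟨_, rfl⟩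
  have eu := ev_twist F.comm qf w
  have ev' := ev_twist F'.comm qf w
  change ev u w = _ at eu
  change ev v w = _ at ev'
  have hy₁ : L y₀ * c * (L y₀)⁻¹ = L y * c * (L y)⁻¹ := by
    rw [hy₀, ← conj_twist_pow F.comm hdd (hs ▸ hsc.2.2.symm) w.length, ← eu, hconj, he₁]
  have hev : y₀⁻¹ * y ∈ evenPart := (F.stab_iff _).1 (by
    rw [map_mul, map_inv, mul_inv_rev, inv_inv]
    calc (L y₀)⁻¹ * L y * c * ((L y)⁻¹ * L y₀) = (L y₀)⁻¹ * (L y * c * (L y)⁻¹) * L y₀ := by group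
      _ = c := by rw [← hy₁]; group)
  have hy₂ : L' y * c' * (L' y)⁻¹ = ev v w * c' * (ev v w)⁻¹ := by
    rw [ev', conj_twist_pow F'.comm hdd' (hs' ▸ hsc'.2.2.symm) w.length, ← hy₀]
    have k := (F'.stab_iff _).2 hev
    rw [map_mul, map_inv, mul_inv_rev, inv_inv] at k
    calc L' y * c' * (L' y)⁻¹ = L' y₀ * ((L' y₀)⁻¹ * L' y * c' * ((L' y)⁻¹ * L' y₀)) * (L' y₀)⁻¹ := by group
      _ = _ := by rw [k]
  rw [hy₂]
  refine commute_of_pr h' B'.set.tf hsd'.1 hcs' (perp_conj' h' hsv hcs') ?_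
  have k1 : Commute (Fi23.g 7) (ev Fi23.g w * Fi23.g 7 * (ev Fi23.g w)⁻¹) := by
    have : Commute (Θ (Fi23.g 7)) (Θ (ev Fi23.g w * Fi23.g 7 * (ev Fi23.g w)⁻¹)) := by
      rw [map_mul, map_mul, map_inv, ew, Θ.apply_symm_apply, hΘc, hgc]
      exact commute_pr hcs hes hy
    simpa using this.map Θ.symm.toMonoidHom
  have k2 := k1.map φ
  rw [map_mul, map_mul, map_inv, hφ', hsq7, ← em'] at k2
  exact k2

end Cfsg.Agent.Fus.M24U
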