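import Mathlib

/-! Steps leading from an orbit to an earlier one. -/

set_option autoImplicit false
set_option maxRecDepth 100000

namespace Cfsg.Agent.Fus.M24U

/-- Part 9. -/
def steps9 : List (ℕ × List (ℕ × ℕ)) := [
  (2329, [(0x1, 15246)]), (2330, [(0x1, 15265)]),
  (2331, [(0x17, 15316)]), (2332, [(0x16543823412385645342381234567, 15320)]),
  (2333, [(0x1, 15324)]), (2334, [(0x17, 15326)]),
  (2335, [(0x17, 15384)]), (2336, [(0x1, 15411)]),
  (2337, [(0x1, 15474)]), (2338, [(0x1, 15487)]),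
  (2339, [(0x1, 15515)]), (2340, [(0x1, 15533)]),
  (2341, [(0x1, 15534)]), (2342, [(0x1, 15545)]),
  (2343, [(0x1, 15587)]), (2344, [(0x1, 15619)]),
  (2345, [(0x1, 15644)]), (2346, [(0x1, 15763)]),
  (2347, [(0x1, 15844)]), (2348, [(0x1, 15850)]),
  (2349, [(0x1, 15852)]), (2350, [(0x1, 15853)]),
  (2351, [(0x17, 15867)]), (2352, [(0x16543823412385645342381234567, 15904)]),
  (2353, [(0x1, 15947)]), (2354, [(0x1238965342385645234123894534123801234567, 29487)]),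
  (2355, [(0x1, 15958)]), (2356, [(0x1, 16006)]),
  (2357, [(0x1, 16008)]), (2358, [(0x1, 16032)]),
  (2359, [(0x1, 16119)]), (2360, [(0x1, 16127)]),
  (2361, [(0x1, 16147)]), (2362, [(0x1, 16181)]),
  (2363, [(0x1, 16183)]), (2364, [(0x1, 16207)]),
  (2365, [(0x1, 16215)]), (2366, [(0x17, 16317)]),
  (2367, [(0x1, 16329)]), (2368, [(0x138983423845634523412389534123801234567, 21489)]),
  (2369, [(0x1, 16416)]), (2370, [(0x1, 16451)]),
  (2371, [(0x1, 16488)]), (2372, [(0x16543823412385645342381234567, 16494)]),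
  (2373, [(0x1, 16512)]), (2374, [(0x1, 16533)]),
  (2375, [(0x1, 16534)]), (2376, [(0x1, 16768)]),
  (2377, [(0x1, 16779)]), (2378, [(0x1, 16823)]),
  (2379, [(0x17, 16884)]), (2380, [(0x1, 16898)]),
  (2381, [(0x1, 16901)]), (2382, [(0x1, 16904)]),
  (2383, [(0x1, 17059)]), (2384, [(0x17, 17062)]),
  (2385, [(0x17, 17095)]), (2386, [(0x1, 17107)]),
  (2387, [(0x1, 17276)]), (2388, [(0x17, 17280)]),
  (2389, [(0x1, 17293)]), (2390, [(0x1, 17321)]),
  (2391, [(0x1, 17334)]), (2392, [(0x1, 17506)]),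
  (2393, [(0x1, 17534)]), (2394, [(0x17, 17664)]),
  (2395, [(0x1, 17755)]), (2396, [(0x1, 17793)]),
  (2397, [(0x1, 18111)]), (2398, [(0x1, 18112)]),
  (2399, [(0x1, 18123)]), (2400, [(0x1, 18168)]),
  (2401, [(0x1, 18292)]), (2402, [(0x1, 18365)]),
  (2403, [(0x1, 18377)]), (2404, [(0x1, 18656)]),
  (2405, [(0x1, 18862)]), (2406, [(0x1, 18911)]),
  (2407, [(0x17, 18917)]), (2408, [(0x1, 18921)]),
  (2409, [(0x17, 18987)]), (2410, [(0x1, 19007)]),
  (2411, [(0x1, 19056)]), (2412, [(0x1, 19243)]),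
  (2413, [(0x1, 19288)]), (2414, [(0x1, 19306)]),
  (2415, [(0x1, 19363)]), (2416, [(0x1, 19424)]),
  (2417, [(0x17, 19446)]), (2418, [(0x1, 19490)]),
  (2419, [(0x1, 19549)]), (2420, [(0x1, 20027)])]

end Cfsg.Agent.Fus.M24U
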