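import Cfsg.Agent.Lib.Spor.Cos.Fi23.Trans
import Cfsg.Agent.Lib.Fus.M24U.OrbData
import Cfsg.Agent.Lib.Fus.M24U.UpData
import Cfsg.Agent.Lib.Fus.M24U.Step0
import Cfsg.Agent.Lib.Fus.M24U.Step1
import Cfsg.Agent.Lib.Fus.M24U.Step2
import Cfsg.Agent.Lib.Fus.M24U.Step3
import Cfsg.Agent.Lib.Fus.M24U.Step4
import Cfsg.Agent.Lib.Fus.M24U.Step5
import Cfsg.Agent.Lib.Fus.M24U.Step6
import Cfsg.Agent.Lib.Fus.M24U.Step7
import Cfsg.Agent.Lib.Fus.M24U.Step8
import Cfsg.Agent.Lib.Fus.M24U.Step9

/-! Checks on the orbits of an element of order thirteen of Fi23. -/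

set_option autoImplicit false
set_option maxRecDepth 100000
set_option maxHeartbeats 4000000

open Cfsg.Agent.Spor.Cos

namespace Cfsg.Agent.Fus.M24U

open Cfsg.Agent.Spor.Cos.Fi23 (actA nine centralWord)

/-- The word of the central involution. -/
def tw : List ℕ := centralWord.map fun s => nine.getD s 10

/-- The orbit of a point. -/
noncomputable def ob (p : ℕ) : ℕ := otTab.at p / 16

/-- The place of a point in its orbit. -/
noncomputable def pl (p : ℕ) : ℕ := otTab.at p % 16

/-- The first point of an orbit. -/
noncomputable def rep (o : ℕ) : ℕ := repTab.at o % 65536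

/-- The kind of an orbit: 0 small, 1 in the set, 2 large, 3 fixed. -/
noncomputable def kind (o : ℕ) : ℕ := repTab.at o / 65536 % 16

/-- The rank of an orbit. -/
noncomputable def rank (o : ℕ) : ℕ := repTab.at o / 1048576

/-- A path from its code. -/
def decW : ℕ → ℕ → List ℕ
  | 0, _ => []
  | f + 1, v => bif Nat.ble v 1 then [] else decW f (v / 16) ++ [v % 16]

/-- A point of the set. -/
noncomputable def inSet (p : ℕ) : Bool := Nat.beq (kind (ob p)) 1 || Nat.beq (kind (ob p)) 3

/-- The word of the transposition at the end of a path. -/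
def trW (w : List ℕ) : List ℕ := w ++ tw ++ w.reverse

/-- Orbits reached from known ones. -/
noncomputable def spread : List (ℕ × ℕ) → List ℕ → List ℕ
  | [], K => K
  | (c, v) :: r, K =>
    bif (decW 60 c).all (fun s => Nat.blt s 10) && Nat.blt v 31671 && K.contains (ob (actA.go (decW 60 c) 0)) &&
        K.contains (ob v) then
      spread r (ob (actA.go (trW (decW 60 c)) v) :: K)
    else spread r K

/-- The three fixed orbits. -/
noncomputable def fixedOrbs : List ℕ := [ob 0, ob 1, ob 31421]

/-- An orbit leads to an earlier one. -/
noncomputable def downOk (o : ℕ × List (ℕ × ℕ)) : Bool :=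
  force ((spread o.2 (o.1 :: fixedOrbs)).headD 2439) fun t =>
    Nat.blt o.1 2439 && Nat.blt (rank t) (rank o.1) &&
      (Nat.beq t anchor || Nat.beq (kind t) 1 || Nat.beq (kind t) 2) && Nat.blt t 2439

/-- All steps. -/
def allSteps : List (ℕ × List (ℕ × ℕ)) :=
  steps0 ++ steps1 ++ steps2 ++ steps3 ++ steps4 ++ steps5 ++ steps6 ++ steps7 ++ steps8 ++ steps9

theorem down0_ok : steps0.all downOk = true := by decide +kernel

theorem down1_ok : steps1.all downOk = true := by decide +kernel

theorem down2_ok : steps2.all downOk = true := by decide +kernel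

theorem down3_ok : steps3.all downOk = true := by decide +kernel

theorem down4_ok : steps4.all downOk = true := by decide +kernel

theorem down5_ok : steps5.all downOk = true := by decide +kernel

theorem down6_ok : steps6.all downOk = true := by decide +kernel

theorem down7_ok : steps7.all downOk = true := by decide +kernel

theorem down8_ok : steps8.all downOk = true := by decide +kernel

theorem down9_ok : steps9.all downOk = true := by decide +kernel

/-- Listed orbits as bits. -/
def listed : ℕ := (allSteps.map Prod.fst).foldl (fun s q => s ||| (1 <<< q)) 0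

theorem cover_ok : ∀ o < 2439,
    (!(Nat.beq (kind o) 1 || Nat.beq (kind o) 2) || Nat.beq o anchor || listed.testBit o) = true := by
  refine of_blocks (size := 256) (b := 10) (by decide) (by decide) fun j hj => ?_
  interval_cases j <;> decide +kernel

/-- The orbit table follows the element. -/
noncomputable def otOk (p : ℕ) : Bool :=
  Nat.blt (ob p) 2439 && Nat.blt (pl p) 13 &&
    bif Nat.beq (pl p) 0 then Nat.beq (rep (ob p)) p
    else force (actA.go xw.reverse p) fun q => Nat.beq (ob q) (ob p) && Nat.beq (pl q + 1) (pl p)

theorem ot_ok : ∀ p < 31671, otOk p = true := by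
  refine of_blocks (size := 2048) (b := 16) (by decide) (by decide) fun j hj => ?_
  interval_cases j <;> decide +kernel

theorem fixed_ok : ∀ p < 31671,
    (!Nat.beq (actA.go xw p) p || Nat.beq p 0 || Nat.beq p 1 || Nat.beq p 31421) = true := by
  refine of_blocks (size := 2048) (b := 16) (by decide) (by decide) fun j hj => ?_
  interval_cases j <;> decide +kernel

theorem three_fixed_ok : (([0, 1, 31421] : List ℕ).all fun p => Nat.beq (actA.go xw p) p && inSet p) = true := by
  decide +kernel

theorem small_ok : ∀ o < 2439,
    (Nat.beq (kind o) 1 || Nat.beq (kind o) 2 || smallOrbs.contains o) = true := by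
  refine of_blocks (size := 256) (b := 10) (by decide) (by decide) fun j hj => ?_
  interval_cases j <;> decide +kernel

theorem small_length : Nat.blt (smallOrbs.length * 13) 3240 = true := by decide +kernel

theorem anchor_ok : (Nat.beq (kind anchor) 1 && Nat.blt anchor 2439) = true := by decide +kernel

/-- The orbits spread from the chosen one. -/
noncomputable def upKnown : List ℕ := spread upSteps (anchor :: fixedOrbs)

theorem up_ok : ∀ o < 2439, (!Nat.beq (kind o) 1 || upKnown.contains o) = true := by
  refine of_blocks (size := 2439) (b := 1) (by decide) (by decide) fun j hj => ?_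
  interval_cases j; decide +kernel

theorem kinds_ok : ∀ o < 2439,
    (Nat.ble (kind o) 2 || Nat.beq o (ob 0) || Nat.beq o (ob 1) || Nat.beq o (ob 31421)) = true := by
  refine of_blocks (size := 256) (b := 10) (by decide) (by decide) fun j hj => ?_
  interval_cases j <;> decide +kernel

/-- An increasing list. -/
def increasing : List ℕ → Bool
  | a :: b :: r => Nat.blt a b && increasing (b :: r)
  | _ => true

theorem w0_ok : (increasing w0List && Nat.beq w0List.length 3240 &&
    w0List.all fun p => Nat.blt p 31671 && inSet p) = true := by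
  decide +kernel

/-- The witness of an orbit. -/
noncomputable def domOk (o : ℕ) : Bool :=
  (decW 60 (domTab.at o)).all (fun s => Nat.blt s 10) && inSet (actA.go (decW 60 (domTab.at o)) 0) &&
    Nat.beq (actA.go (trW (decW 60 (domTab.at o))) (rep o)) (rep o)

theorem dom_ok : ∀ o < 2439, domOk o = true := by
  refine of_blocks (size := 256) (b := 10) (by decide) (by decide) fun j hj => ?_
  interval_cases j <;> decide +kernel

theorem xw_ok : (Act.lettersOk 10 [xw] && chkPow actA [0, 1, 2, 3, 4, 5, 6, 8, 9] 13 xw &&
    !Nat.beq (actA.go xw 2) 2) = true := by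
  decide +kernel

theorem tw_ok : Act.lettersOk 10 [tw] = true := by decide +kernel

end Cfsg.Agent.Fus.M24U
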