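import Cfsg.Agent.Lib.Fus.M24U.Checks
import Cfsg.Agent.Lib.Fus.M23U.TypeOf.Points

/-! A closed set of 3240 transpositions of Fi23 invariant under an element of order thirteen. -/

set_option autoImplicit false
set_option maxRecDepth 100000
set_option maxHeartbeats 2000000

open Cfsg.Agent.Spor.Cos

namespace Cfsg.Agent.Fus.M24U

open Cfsg
open Cfsg.Agent.Spor.Cos.Fi23 (actA piA baseA homA)
open Cfsg.Agent.Fus.M23U.TypeOf (dp dp_eq dp_equivariant commute_dp)

attribute [local irreducible] ob pl rep kind rank smallOrbs upSteps w0List domTab anchor steps0 steps1 steps2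
  steps3 steps4 steps5 steps6 steps7 steps8 steps9 listed

/-- The element of order thirteen. -/
noncomputable def x13 : Spor.Fi23 := ev Fi23.g xw

theorem xw_lt : ∀ s ∈ xw, s < 10 := by
  have h := xw_ok
  simp only [Bool.and_eq_true] at h
  exact Act.lt_of_lettersOk h.1.1 List.mem_cons_self

theorem x13_pow : x13 ^ 13 = 1 := by
  have h := xw_ok
  simp only [Bool.and_eq_true] at h
  refine Fi23.det _ fun q hq => ?_
  have hk := List.all_eq_true.1 h.1.2 _ hq
  exact Fin.ext (((powGo_eq homA xw_lt q) 13).symm.trans (Nat.eq_of_beq_eq_true hk))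

theorem x13_apply (q : Fin actA.N) : (piA x13 q : ℕ) = actA.go xw q := homA.apply_ev xw xw_lt q

theorem x13_inv_apply (q : Fin actA.N) : (piA x13⁻¹ q : ℕ) = actA.go xw.reverse q := by
  rw [x13, ← ev_reverse (n := 10) (fun s _ => Fi23.g_sq s) xw xw_lt]
  exact homA.apply_ev _ (fun s hs => xw_lt s (List.mem_reverse.1 hs)) q

theorem orderOf_x13 : orderOf x13 = 13 := by
  haveI : Fact (Nat.Prime 13) := ⟨by norm_num⟩
  refine orderOf_eq_prime x13_pow fun h => ?_
  have hk := xw_ok
  simp only [Bool.and_eq_true, Bool.not_eq_true'] at hk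
  have e := x13_apply ⟨2, by decide⟩
  rw [h, map_one, Equiv.Perm.one_apply] at e
  rw [← e] at hk
  exact absurd hk.2 (by simp)

/-- A point from its number. -/
theorem lt_N {p : ℕ} (hp : p < 31671) : p < actA.N := hp

theorem ob_lt {p : ℕ} (hp : p < 31671) : ob p < 2439 ∧ pl p < 13 := by
  have h := ot_ok p hp
  simp only [otOk, Bool.and_eq_true] at h
  exact ⟨Nat.le_of_ble_eq_true h.1.1, Nat.le_of_ble_eq_true h.1.2⟩

/-- Every point comes from the first of its orbit by a power of the element. -/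
theorem orbit_spec : ∀ (n : ℕ) (p : Fin actA.N), pl p = n →
    ∃ r : Fin actA.N, (r : ℕ) = rep (ob p) ∧ piA (x13 ^ n) r = p := by
  intro n
  induction n with
  | zero =>
    intro p hp
    have h := ot_ok p p.2
    simp only [otOk, Bool.and_eq_true, hp, Nat.beq_refl, cond_true] at h
    exact ⟨p, (Nat.eq_of_beq_eq_true h.2).symm, by simp⟩
  | succ n ih =>
    intro p hp
    have h := ot_ok p p.2
    simp only [otOk, Bool.and_eq_true, hp, show Nat.beq (n + 1) 0 = false from rfl, cond_false,
      Spor.Cos.force_eq] at h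
    rw [← x13_inv_apply p] at h
    have e1 := Nat.eq_of_beq_eq_true h.2.1
    have e2 := Nat.eq_of_beq_eq_true h.2.2
    obtain ⟨r, hr, hr'⟩ := ih (piA x13⁻¹ p) (by omega)
    refine ⟨r, by rw [hr, e1], ?_⟩
    rw [pow_succ', map_mul, Equiv.Perm.mul_apply, hr', ← Equiv.Perm.mul_apply, ← map_mul, mul_inv_cancel, map_one,
      Equiv.Perm.one_apply]

variable {W : Set (Fin actA.N)}

theorem pow_mem_iff (hinv : ∀ p ∈ W, piA x13 p ∈ W) (n : ℕ) (p : Fin actA.N) :
    piA (x13 ^ n) p ∈ W ↔ p ∈ W := by
  have hup : ∀ (m : ℕ), ∀ q ∈ W, piA (x13 ^ m) q ∈ W := by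
    intro m
    induction m with
    | zero => intro q hq; simpa using hq
    | succ m ih => intro q hq; rw [pow_succ', map_mul]; exact hinv _ (ih q hq)
  refine ⟨fun h => ?_, hup n p⟩
  have h2 := hup (12 * n) _ h
  rwa [← Equiv.Perm.mul_apply, ← map_mul, ← pow_add, show 12 * n + n = 13 * n by ring, pow_mul, x13_pow, one_pow,
    map_one, Equiv.Perm.one_apply] at h2

theorem orbit_mem (hinv : ∀ p ∈ W, piA x13 p ∈ W) {p q : Fin actA.N} (h : ob p = ob q) (hp : p ∈ W) : q ∈ W := by
  obtain ⟨r, hr, hr'⟩ := orbit_spec _ p rfl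
  obtain ⟨r', hr1, hr1'⟩ := orbit_spec _ q rfl
  have : r = r' := Fin.ext (by rw [hr, hr1, h])
  subst this
  rw [← hr1', pow_mem_iff hinv, ← pow_mem_iff hinv (pl p), hr']
  exact hp

/-- The orbit lies in the set. -/
def InW (W : Set (Fin actA.N)) (o : ℕ) : Prop := ∃ p ∈ W, ob p = o

theorem trW_spec {w : List ℕ} (hw : w.all (fun s => Nat.blt s 10) = true) (v : Fin actA.N) :
    ∃ P : Fin actA.N, (P : ℕ) = actA.go w 0 ∧ (piA (dp P) v : ℕ) = actA.go (trW w) v := by
  have hl : ∀ s ∈ w, s < 10 := fun s hs => Nat.le_of_ble_eq_true (List.all_eq_true.1 hw s hs)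
  have ht : ∀ s ∈ trW w, s < 10 := by
    intro s hs
    simp only [trW, List.mem_append, List.mem_reverse] at hs
    rcases hs with (hs | hs) | hs
    exacts [hl s hs, Act.lt_of_lettersOk tw_ok List.mem_cons_self s hs, hl s hs]
  refine ⟨piA (ev Fi23.g w) baseA, homA.apply_ev w hl baseA, ?_⟩
  rw [dp_eq (y := ev Fi23.g w) rfl, ← homA.apply_ev (trW w) ht v, trW, ev_append, ev_append,
    ev_reverse (n := 10) (fun s _ => Fi23.g_sq s) w hl]
  rfl

theorem spread_spec (hcl : ∀ p ∈ W, ∀ q ∈ W, piA (dp p) q ∈ W) (hinv : ∀ p ∈ W, piA x13 p ∈ W) :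
    ∀ (l : List (ℕ × ℕ)) (K : List ℕ), (∀ o ∈ K, InW W o) → ∀ o ∈ spread l K, InW W o := by
  intro l
  induction l with
  | nil => intro K hK o ho; exact hK o ho
  | cons a r ih =>
    obtain ⟨c, v⟩ := a
    intro K hK o ho
    rw [spread] at ho
    generalize hb : ((decW 60 c).all (fun s => Nat.blt s 10) && Nat.blt v 31671 &&
      K.contains (ob (actA.go (decW 60 c) 0)) && K.contains (ob v)) = b at ho
    cases b
    · exact ih K hK o ho
    · simp only [cond_true] at ho
      simp only [Bool.and_eq_true] at hb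
      obtain ⟨⟨⟨hw, hv⟩, hP⟩, hV⟩ := hb
      have hv' : v < actA.N := Nat.le_of_ble_eq_true hv
      obtain ⟨P, eP, eQ⟩ := trW_spec hw ⟨v, hv'⟩
      obtain ⟨p', hp', ep'⟩ := hK _ (List.contains_iff_mem.1 hP)
      obtain ⟨q', hq', eq'⟩ := hK _ (List.contains_iff_mem.1 hV)
      have hPW : P ∈ W := orbit_mem hinv (by rw [ep', eP]) hp'
      have hVW : (⟨v, hv'⟩ : Fin actA.N) ∈ W := orbit_mem hinv eq' hq'
      refine ih _ (fun o' ho' => ?_) o ho
      rcases List.mem_cons.1 ho' with rfl | ho'
      · exact ⟨_, hcl _ hPW _ hVW, congrArg ob eQ⟩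
      · exact hK o' ho'

theorem spread_ne_nil : ∀ (l : List (ℕ × ℕ)) (K : List ℕ), K ≠ [] → spread l K ≠ []
  | [], _, h => h
  | (c, v) :: r, K, h => by
    rw [spread]
    cases ((decW 60 c).all (fun s => Nat.blt s 10) && Nat.blt v 31671 &&
      K.contains (ob (actA.go (decW 60 c) 0)) && K.contains (ob v))
    · exact spread_ne_nil r K h
    · exact spread_ne_nil r _ (by simp)

theorem headD_mem {K : List ℕ} (h : K ≠ []) (d : ℕ) : K.headD d ∈ K := by
  cases K with
  | nil => exact absurd rfl h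
  | cons a r => simp

theorem listed_spec {l : List ℕ} {o : ℕ} : ∀ {s : ℕ}, (l.foldl (fun s q => s ||| (1 <<< q)) s).testBit o = true →
    s.testBit o = true ∨ o ∈ l := by
  induction l with
  | nil => intro s h; exact Or.inl h
  | cons a r ih =>
    intro s h
    rcases ih h with k | k
    · rw [Nat.testBit_or, Bool.or_eq_true] at k
      rcases k with k | k
      · exact Or.inl k
      · rw [Nat.one_shiftLeft] at k
        exact Or.inr (by
          rw [Nat.testBit_two_pow] at k
          simp only [decide_eq_true_eq] at k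
          simp [k])
    · exact Or.inr (List.mem_cons_of_mem _ k)

theorem step_ok {o : ℕ × List (ℕ × ℕ)} (h : o ∈ allSteps) : downOk o = true := by
  simp only [allSteps, List.mem_append] at h
  rcases h with ((((((((h | h) | h) | h) | h) | h) | h) | h) | h) | h
  exacts [List.all_eq_true.1 down0_ok o h, List.all_eq_true.1 down1_ok o h, List.all_eq_true.1 down2_ok o h,
    List.all_eq_true.1 down3_ok o h, List.all_eq_true.1 down4_ok o h, List.all_eq_true.1 down5_ok o h,
    List.all_eq_true.1 down6_ok o h, List.all_eq_true.1 down7_ok o h, List.all_eq_true.1 down8_ok o h,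
    List.all_eq_true.1 down9_ok o h]

theorem inSet_iff {p : ℕ} : inSet p = true ↔ kind (ob p) = 1 ∨ kind (ob p) = 3 := by
  rw [inSet, Bool.or_eq_true]
  exact or_congr ⟨Nat.eq_of_beq_eq_true, fun h => by rw [h]; rfl⟩ ⟨Nat.eq_of_beq_eq_true, fun h => by rw [h]; rfl⟩

/-- The fixed points of the element lie in the set. -/
theorem fixed_mem (hinv : ∀ p ∈ W, piA x13 p ∈ W) (hcard : W.ncard = 3240) :
    ∀ n ∈ [0, 1, 31421], ∃ p ∈ W, (p : ℕ) = n := by
  classical
  haveI : Fact (Nat.Prime 13) := ⟨by norm_num⟩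
  let σ : Equiv.Perm (Fin actA.N) := piA x13
  let τ : Equiv.Perm W := σ.subtypePerm fun p => ⟨fun h => (pow_mem_iff hinv 1 p).1 (by simpa [σ] using h),
    fun h => hinv p h⟩
  have hτ : τ ^ 13 ^ 1 = 1 := by
    ext p
    simp only [τ, pow_one, Equiv.Perm.subtypePerm_pow, Equiv.Perm.subtypePerm_apply, Equiv.Perm.coe_one, id_eq, σ,
      ← map_pow, x13_pow, map_one]
  have hmod := Equiv.Perm.card_compl_support_modEq hτ
  have hc : Fintype.card W = 3240 := by rw [← Nat.card_eq_fintype_card, Nat.card_coe_set_eq, hcard]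
  rw [hc] at hmod
  let F : Finset ℕ := Finset.image (fun p : W => (p.1 : ℕ)) τ.supportᶜ
  have hFle : F ⊆ {0, 1, 31421} := by
    intro n hn
    simp only [F, Finset.mem_image, Finset.mem_compl, Equiv.Perm.mem_support, not_not] at hn
    obtain ⟨p, hp, rfl⟩ := hn
    have e : piA x13 p.1 = p.1 := congrArg Subtype.val hp
    have h := fixed_ok _ p.1.2
    rw [← x13_apply, e, Nat.beq_refl] at h
    simp only [Bool.not_true, Bool.false_or, Bool.or_eq_true] at h
    rcases h with (h | h) | h <;> simp [Nat.eq_of_beq_eq_true h]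
  have hFcard : F.card = (τ.supportᶜ).card := Finset.card_image_of_injective _ fun a b h =>
    Subtype.ext (Fin.ext h)
  have hle := Finset.card_le_card hFle
  have h3 : (({0, 1, 31421} : Finset ℕ)).card = 3 := rfl
  have hF3 : F.card = 3 := by
    have hm : (τ.supportᶜ).card % 13 = 3240 % 13 := hmod
    omega
  have hF := Finset.eq_of_subset_of_card_le hFle (by omega)
  intro n hn
  have : n ∈ F := by rw [hF]; simpa using hn
  simp only [F, Finset.mem_image] at this
  obtain ⟨p, -, rfl⟩ := this
  exact ⟨p.1, p.2, rfl⟩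

/-- The set. -/
theorem closed_eq (hcl : ∀ p ∈ W, ∀ q ∈ W, piA (dp p) q ∈ W) (hinv : ∀ p ∈ W, piA x13 p ∈ W)
    (hcard : W.ncard = 3240) : W = {p : Fin actA.N | inSet p = true} := by
  classical
  have hfix : ∀ o ∈ fixedOrbs, InW W o := by
    intro o ho
    simp only [fixedOrbs, List.mem_cons, List.not_mem_nil, or_false] at ho
    rcases ho with rfl | rfl | rfl
    · obtain ⟨p, hp, e⟩ := fixed_mem hinv hcard 0 (by simp)
      exact ⟨p, hp, by rw [e]⟩
    · obtain ⟨p, hp, e⟩ := fixed_mem hinv hcard 1 (by simp)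
      exact ⟨p, hp, by rw [e]⟩
    · obtain ⟨p, hp, e⟩ := fixed_mem hinv hcard 31421 (by simp)
      exact ⟨p, hp, by rw [e]⟩
  obtain ⟨p₀, hp₀, hk₀⟩ : ∃ p ∈ W, kind (ob p) = 1 ∨ kind (ob p) = 2 := by
    by_contra hno
    push Not at hno
    let T : Finset ℕ := (smallOrbs.toFinset ×ˢ Finset.range 13).image fun x =>
      if h : rep x.1 < actA.N then ((piA (x13 ^ x.2) ⟨rep x.1, h⟩ : Fin actA.N) : ℕ) else 0
    have hsub : W ⊆ {p : Fin actA.N | (p : ℕ) ∈ T} := by
      intro p hp
      have hs := small_ok _ (ob_lt p.2).1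
      have hn := hno p hp
      rw [Bool.or_eq_true, Bool.or_eq_true] at hs
      rcases hs with (hs | hs) | hs
      · exact absurd (Nat.eq_of_beq_eq_true hs) hn.1
      · exact absurd (Nat.eq_of_beq_eq_true hs) hn.2
      obtain ⟨r, hr, hr'⟩ := orbit_spec _ p rfl
      refine Finset.mem_image.2 ⟨(ob p, pl p), Finset.mem_product.2
        ⟨List.mem_toFinset.2 (List.contains_iff_mem.1 hs), Finset.mem_range.2 (ob_lt p.2).2⟩, ?_⟩
      rw [dif_pos (show rep (ob p) < actA.N from hr ▸ r.2),
        show (⟨rep (ob p), hr ▸ r.2⟩ : Fin actA.N) = r from Fin.ext hr.symm, hr']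
    have h1 : W.ncard ≤ T.card := by
      refine le_trans (Set.ncard_le_ncard hsub) ?_
      rw [← Set.ncard_coe_finset]
      exact Set.ncard_le_ncard_of_injOn (fun p : Fin actA.N => (p : ℕ)) (fun p hp => hp)
        (fun a _ b _ e => Fin.ext e)
    have h2 : T.card ≤ smallOrbs.length * 13 := by
      refine Finset.card_image_le.trans ?_
      rw [Finset.card_product, Finset.card_range]
      exact Nat.mul_le_mul_right _ (List.toFinset_card_le _)
    have h3 := Nat.le_of_ble_eq_true small_length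
    omega
  have hanchor : InW W anchor := by
    suffices ∀ (n o : ℕ), rank o = n → InW W o → kind o = 1 ∨ kind o = 2 → InW W anchor from
      this _ _ rfl ⟨p₀, hp₀, rfl⟩ hk₀
    intro n
    induction n using Nat.strong_induction_on with
    | _ n ih =>
      intro o hn ho hk
      by_cases ha : o = anchor
      · exact ha ▸ ho
      have hin := ho
      obtain ⟨p, -, hop⟩ := hin
      have ho' : o < 2439 := hop ▸ (ob_lt p.2).1
      have hc := cover_ok o ho'
      have hkb : (Nat.beq (kind o) 1 || Nat.beq (kind o) 2) = true := by rcases hk with k | k <;> simp [k]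
      rw [hkb, Bool.not_true, Bool.false_or, Bool.or_eq_true] at hc
      have hmem : o ∈ allSteps.map Prod.fst :=
        by
        have hl := hc.resolve_left fun k => ha (Nat.eq_of_beq_eq_true k)
        rw [listed] at hl
        exact (listed_spec hl).resolve_left (by simp)
      obtain ⟨⟨o', l⟩, hl, e⟩ := List.mem_map.1 hmem
      have eo : o' = o := e
      subst eo
      have hd := step_ok hl
      simp only [downOk, Spor.Cos.force_eq, Bool.and_eq_true, Bool.or_eq_true] at hd
      have hK : ∀ x ∈ o' :: fixedOrbs, InW W x := by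
        intro x hx
        rcases List.mem_cons.1 hx with rfl | hx
        · exact ho
        · exact hfix x hx
      have ht := spread_spec hcl hinv l _ hK _ (headD_mem (spread_ne_nil l _ (by simp)) 2439)
      obtain ⟨⟨⟨-, hr⟩, hkind⟩, -⟩ := hd
      rcases hkind with (k | k) | k
      · rw [← Nat.eq_of_beq_eq_true k]; exact ht
      · exact ih _ (hn ▸ Nat.le_of_ble_eq_true hr) _ rfl ht (Or.inl (Nat.eq_of_beq_eq_true k))
      · exact ih _ (hn ▸ Nat.le_of_ble_eq_true hr) _ rfl ht (Or.inr (Nat.eq_of_beq_eq_true k))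
  have hup : ∀ o ∈ upKnown, InW W o := by
    refine spread_spec hcl hinv _ _ fun o ho => ?_
    rcases List.mem_cons.1 ho with rfl | ho
    exacts [hanchor, hfix o ho]
  have hsub : {p : Fin actA.N | inSet p = true} ⊆ W := by
    intro p hp
    have hl := (ob_lt p.2).1
    obtain ⟨q, hq, e⟩ : InW W (ob p) := by
      rcases inSet_iff.1 hp with k | k
      · have hu := up_ok _ hl
        rw [k, Nat.beq_refl, Bool.not_true, Bool.false_or] at hu
        exact hup _ (List.contains_iff_mem.1 hu)
      · have hu := kinds_ok _ hl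
        simp only [k, Bool.or_eq_true] at hu
        refine hfix _ ?_
        rcases hu with ((u | u) | u) | u
        · exact absurd u (by decide)
        all_goals simp [fixedOrbs, Nat.eq_of_beq_eq_true u]
    exact orbit_mem hinv e hq
  refine (Set.eq_of_subset_of_ncard_le hsub ?_).symm
  rw [hcard]
  have hw := w0_ok
  simp only [Bool.and_eq_true, List.all_eq_true] at hw
  obtain ⟨⟨hinc, hlen⟩, hall⟩ := hw
  have hnd : w0List.Nodup := by
    have key : ∀ l : List ℕ, increasing l = true → l.Pairwise (· < ·) := by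
      intro l
      induction l with
      | nil => simp
      | cons a r ih =>
        intro h
        cases r with
        | nil => simp
        | cons b r =>
          rw [increasing, Bool.and_eq_true] at h
          have hb := Nat.le_of_ble_eq_true h.1
          have hr := ih h.2
          refine List.pairwise_cons.2 ⟨fun x hx => ?_, hr⟩
          rcases List.mem_cons.1 hx with rfl | hx
          · exact hb
          · exact lt_trans hb (List.rel_of_pairwise_cons hr hx)
    exact (key _ hinc).imp fun h => ne_of_lt h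
  rw [← Nat.eq_of_beq_eq_true hlen, ← List.toFinset_card_of_nodup hnd, ← Set.ncard_coe_finset]
  refine le_trans (Set.ncard_le_ncard (t := (fun p : Fin actA.N => (p : ℕ)) '' {p : Fin actA.N | inSet p = true})
    (fun n hn => ?_) (Set.toFinite _)) (Set.ncard_image_le (Set.toFinite _))
  have hn' := hall n (List.mem_toFinset.1 hn)
  exact ⟨⟨n, Nat.le_of_ble_eq_true hn'.1⟩, hn'.2, rfl⟩

/-- Every point commutes with a member of the set. -/
theorem dominated (hW : W = {p : Fin actA.N | inSet p = true}) (hinv : ∀ p ∈ W, piA x13 p ∈ W)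
    (q : Fin actA.N) : ∃ p ∈ W, Commute (dp p) (dp q) := by
  obtain ⟨r, hr, hr'⟩ := orbit_spec _ q rfl
  have h := dom_ok _ (ob_lt q.2).1
  simp only [domOk, Bool.and_eq_true] at h
  obtain ⟨⟨hw, hin⟩, hfx⟩ := h
  obtain ⟨P, eP, eQ⟩ := trW_spec hw r
  have hPW : P ∈ W := by rw [hW]; show inSet P = true; rw [eP]; exact hin
  have hc : piA (dp P) r = r := Fin.ext (by rw [eQ, hr]; exact Nat.eq_of_beq_eq_true hfx)
  refine ⟨piA (x13 ^ pl q) P, (pow_mem_iff hinv _ _).2 hPW, commute_dp.2 ?_⟩
  obtain ⟨n, hn⟩ : ∃ n, n = pl (q : ℕ) := ⟨_, rfl⟩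
  rw [← hn] at hr' ⊢
  subst hr'
  rw [dp_equivariant, ← Equiv.Perm.mul_apply, ← map_mul, mul_assoc, inv_mul_cancel, mul_one, map_mul,
    Equiv.Perm.mul_apply, hc]

end Cfsg.Agent.Fus.M24U
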